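import Cfsg.Agent.Lib.KnownB.OreOmegaMinus.Invt

/-!
A conjugate in the big cell with non-scalar invertible corner.
-/

set_option autoImplicit false
set_option linter.unusedSectionVars false

namespace CfsgLib.KnownB.OreOmegaMinus

open Matrix QuadraticMap CfsgLib.Geometry CfsgLib.Thompson CfsgLib.KnownB.Sourour

variable {F : Type*} [Field F] {m : ℕ} {a b : F}

/-- only signs keep the first isotropic space in every conjugate -/
theorem exists_crC (hm : 1 ≤ m) (hA : Aniso a b) {g : GL (Ix m) F} (hg : g ∈ OM m a b)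
    (h1 : g.1 ≠ 1) (h2 : g.1 ≠ -1) : ∃ y ∈ OM m a b, crC (y * g * y⁻¹) ≠ 0 := by
  classical
  by_contra hcon
  push Not at hcon
  have hgen : ∀ y ∈ OM m a b, ∀ x, (y * g * y⁻¹).1 *ᵥ vm x 0 0 =
      vm (crA (y * g * y⁻¹) *ᵥ x) 0 0 := fun y hy x => by
    have hm' : y * g * y⁻¹ ∈ OM m a b := mul_mem (mul_mem hy hg) (inv_mem hy)
    have hx : crC (y * g * y⁻¹) *ᵥ x = 0 := by rw [hcon y hy, zero_mulVec]
    rw [mulVec_vx, crE_ker hA hm' hx, hx]
  set A := crA g
  set D := crA (flp F m * g * (flp F m)⁻¹) with hDdef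
  have eX : ∀ x, g.1 *ᵥ vm x 0 0 = vm (A *ᵥ x) 0 0 := fun x => by
    have h := hgen 1 (one_mem _) x
    rwa [one_mul, inv_one, mul_one] at h
  have eY : ∀ y, g.1 *ᵥ vm 0 y 0 = vm 0 (D *ᵥ y) 0 := fun y => by
    have h := hgen _ flp_mem y
    rw [flp_inv, Units.val_mul, Units.val_mul, ← mulVec_mulVec, ← mulVec_mulVec, flp_mulVec] at h
    refine mulVec_injM (flp F m) ?_
    rw [h, flp_mulVec, hDdef, flp_inv]
  have hAD : Aᵀ * D = 1 := eq_of_bilin fun x y => by
    have := polar_map hg (vm x 0 0) (vm 0 y 0)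
    rw [eX, eY, polar_vm, polar_vm] at this
    rw [one_mulVec, ← dot_mm]
    simpa using this
  have hDA : D * Aᵀ = 1 := mul_eq_one_comm.1 hAD
  let K : Matrix (Fin 2) (Fin 2) F := Matrix.of fun i j => g.1 (Sum.inr i) (Sum.inr j)
  have eZ : ∀ z, g.1 *ᵥ vm 0 0 z = vm 0 0 (K *ᵥ z) := fun z => by
    obtain ⟨p, s, w, e⟩ : ∃ p s w, g.1 *ᵥ vm 0 0 z = vm p s w := ⟨_, _, _, vm_eta _⟩
    have hp : p = 0 := bilin_eq_zero fun v => by
      have := polar_map hg (vm 0 0 z) (vm 0 (Aᵀ *ᵥ v) 0)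
      rw [e, eY, polar_vm, polar_vm, mulVec_mulVec _ D, hDA, one_mulVec] at this
      simpa using this
    have hs : s = 0 := bilin_eq_zero fun v => by
      have := polar_map hg (vm (Dᵀ *ᵥ v) 0 0) (vm 0 0 z)
      rw [e, eX, polar_vm, polar_vm, mulVec_mulVec _ A,
        show A * Dᵀ = 1 by simpa using congrArg transpose hDA, one_mulVec] at this
      simpa [dotProduct_comm] using this
    have hw : w = K *ᵥ z := funext fun i => by
      have := congrFun e (Sum.inr i)
      simp [vm, Matrix.mulVec, dotProduct, Fintype.sum_sum_type] at this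
      rw [← this]
      simp [K, Matrix.mulVec, dotProduct]
    rw [e, hp, hs, hw]
  have eg : ∀ x y z, g.1 *ᵥ vm x y z = vm (A *ᵥ x) (D *ᵥ y) (K *ᵥ z) := by
    intro x y z
    rw [show vm x y z = vm x 0 0 + vm 0 y 0 + vm 0 0 z by rw [vm_add, vm_add, vm_inj]; simp,
      mulVec_add, mulVec_add, eX, eY, eZ, vm_add, vm_add, vm_inj]
    simp
  have hRD : ∀ R : Matrix (Fin 2) (Fin m) F, R * D = K * R := fun R =>
    Matrix.ext_iff_mulVec.2 fun x => by
      have h := hgen _ (mul_mem flp_mem (upE_mem.2 (uok_gram (a := a) (b := b) R))) x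
      rw [show flp F m * upE a b R (-(Rᵀ * Gm a b * R)) * g *
          (flp F m * upE a b R (-(Rᵀ * Gm a b * R)))⁻¹ =
        flp F m * (upE a b R (-(Rᵀ * Gm a b * R)) * g *
          (upE a b R (-(Rᵀ * Gm a b * R)))⁻¹) * (flp F m)⁻¹ by group,
        flp_inv, upE_inv, Units.val_mul, Units.val_mul, Units.val_mul, Units.val_mul,
        ← mulVec_mulVec, ← mulVec_mulVec, flp_mulVec, ← mulVec_mulVec, ← mulVec_mulVec] at h
      simp only [upE_val, upMat_mulVec] at h
      rw [eg, upMat_mulVec, flp_mulVec] at h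
      have := (vm_inj.1 h).2.2
      simp only [zero_add, neg_mulVec, mulVec_neg, ← mulVec_mulVec] at this ⊢
      exact (add_eq_zero_iff_neg_eq.1 this).symm.trans (neg_neg _)
  set α := K 0 0
  have hent : ∀ (r s : Fin 2) (j k : Fin m),
      (if s = r then D j k else 0) = if j = k then K s r else 0 := fun r s j k => by
    have h := congrFun (congrFun (hRD (Matrix.single r j 1)) s) k
    simp [Matrix.mul_apply, Matrix.single_apply, ite_and, Finset.sum_ite_eq,
      Finset.sum_ite_eq'] at h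
    by_cases hrs : r = s
    · rw [if_pos hrs.symm]; rwa [if_pos hrs] at h
    · rw [if_neg (Ne.symm hrs)]; rwa [if_neg hrs] at h
  have j0 : Fin m := ⟨0, hm⟩
  have hD : D = α • 1 := by
    ext j k
    have h := hent 0 0 j k
    rw [if_pos rfl] at h
    rw [h, Matrix.smul_apply, Matrix.one_apply]
    split_ifs <;> simp [α]
  have hK : K = α • 1 := by
    ext s r
    have h := hent r s j0 j0
    rw [if_pos rfl, hD] at h
    simp [Matrix.smul_apply, Matrix.one_apply] at h ⊢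
    exact h.symm
  have hα : α * α = 1 := by
    have h := mem_OM.1 hg 0 0 (Pi.single 0 1)
    rw [eg, qM_vm, hK, smul_mulVec, one_mulVec, qm_smul] at h
    have hq : qm a b (Pi.single 0 1 : Fin 2 → F) = 1 := by rw [qm_apply]; simp
    simpa [hq] using h
  have hA' : A = α • 1 := by
    have h := congrArg transpose hDA
    rw [transpose_mul, transpose_transpose, transpose_one, hD, transpose_smul, transpose_one,
      Matrix.mul_smul, Matrix.mul_one] at h
    rw [← h, smul_smul, hα, one_smul]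
  have hsc : g.1 = α • 1 := extM fun x y z => by
    rw [eg, hA', hD, hK, smul_mulVec, smul_mulVec, smul_mulVec, smul_mulVec, one_mulVec, one_mulVec,
      one_mulVec, one_mulVec, vm_smul]
  rcases mul_self_eq_one_iff.1 hα with h | h
  · exact h1 (by rw [hsc, h, one_smul])
  · exact h2 (by rw [hsc, h, neg_one_smul])

/-- some allowed `S` makes `A + S C` invertible and not scalar -/
theorem exists_corner (A C : Matrix (Fin m) (Fin m) F) (hC : C ≠ 0) (hAC : IsA false (Aᵀ * C))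
    (hinj : ∀ v, A *ᵥ v = 0 → C *ᵥ v = 0 → v = 0) (hm : 3 ≤ m) :
    ∃ S, Cls false true S ∧ (A + S * C).det ≠ 0 ∧ ¬ ∃ l : F, A + S * C = l • 1 := by
  classical
  have hr : 0 < C.rank := Nat.pos_of_ne_zero fun h => hC (by
    have h' : LinearMap.range C.mulVecLin = ⊥ := Submodule.finrank_eq_zero.1 h
    refine Matrix.ext_iff_mulVec.2 fun v => ?_
    have := LinearMap.congr_fun (LinearMap.range_eq_bot.1 h') v
    simpa using this)
  have key : ∀ {R : Type} [Fintype R] [DecidableEq R], Fintype.card R = C.rank →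
      ∀ X X' : Matrix R R F, Cls false true X → X.det ≠ 0 → Cls false true X' → X'.det ≠ 0 →
      (Fintype.card R = m → ∀ s : F, X' ≠ s • X) →
      ∃ S, Cls false true S ∧ (A + S * C).det ≠ 0 ∧ ¬ ∃ l : F, A + S * C = l • 1 := by
    intro R _ _ hR X X' hX h0 hX' h0' hne
    obtain ⟨k, e, P, Q, A22, -, h22, hfam⟩ := exists_nf (o := true) A C hAC hinj hR
    have hdetY : ∀ (Y : Matrix R R F) (E : Matrix (Fin k) R F), Y.det ≠ 0 →
        ((ti Q).1 * (fromBlocks Y 0 E A22).submatrix e e * P.1).det ≠ 0 := by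
      intro Y E hY
      rw [det_mul, det_mul, det_submatrix_equiv_self, det_fromBlocks_zero₁₂]
      exact mul_ne_zero (mul_ne_zero ((Matrix.isUnit_iff_isUnit_det _).1 (ti Q).isUnit).ne_zero
        (mul_ne_zero hY h22)) ((Matrix.isUnit_iff_isUnit_det _).1 P.isUnit).ne_zero
    have fin : ∀ Y Y' : Matrix R R F, ∀ E E' : Matrix (Fin k) R F, Cls false true Y →
        Cls false true Y' → Y.det ≠ 0 → Y'.det ≠ 0 →
        (∀ s : F, fromBlocks Y' 0 E' A22 ≠ s • fromBlocks Y 0 E A22) →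
        ∃ S, Cls false true S ∧ (A + S * C).det ≠ 0 ∧ ¬ ∃ l : F, A + S * C = l • 1 := by
      intro Y Y' E E' hY hY' hd hd' hne
      obtain ⟨S, hS, eS⟩ := hfam Y hY E
      obtain ⟨S', hS', eS'⟩ := hfam Y' hY' E'
      by_contra hcon
      push Not at hcon
      obtain ⟨l, hl⟩ := hcon S hS (by rw [eS]; exact hdetY Y E hd)
      obtain ⟨l', hl'⟩ := hcon S' hS' (by rw [eS']; exact hdetY Y' E' hd')
      rw [eS] at hl
      rw [eS'] at hl'
      have hl0 : l ≠ 0 := by
        intro h0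
        have h := hdetY Y E hd
        have : Nonempty (Fin m) := ⟨⟨0, by omega⟩⟩
        rw [hl, h0, zero_smul, det_zero] at h
        exact h rfl
      refine hne (l' / l) ?_
      have e4 : (ti Q).1 * (fromBlocks Y' 0 E' A22).submatrix e e * P.1 =
          (ti Q).1 * ((l' / l) • fromBlocks Y 0 E A22).submatrix e e * P.1 := by
        rw [hl', submatrix_smul]
        simp only [Pi.smul_apply, Matrix.mul_smul, Matrix.smul_mul]
        rw [hl, smul_smul, div_mul_cancel₀ _ hl0]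
      have e5 := congrArg (fun Z => ((ti Q)⁻¹).1 * Z * (P⁻¹).1) e4
      simp only [← Matrix.mul_assoc, Units.inv_mul, Matrix.one_mul] at e5
      simp only [Matrix.mul_assoc, Units.mul_inv, Matrix.mul_one] at e5
      have := congrArg (fun Z : Matrix (Fin m) (Fin m) F => Z.submatrix e.symm e.symm) e5
      simpa [submatrix_submatrix] using this
    by_cases hk : k = 0
    · subst hk
      have hcard : Fintype.card R = m := by
        have := Fintype.card_congr e
        simpa using this.symm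
      refine fin X X' 0 0 hX hX' h0 h0' fun s hs => hne hcard s ?_
      rw [fromBlocks_smul] at hs
      exact (fromBlocks_inj.1 hs).1
    · obtain ⟨i₀⟩ : Nonempty (Fin k) := ⟨⟨0, Nat.pos_of_ne_zero hk⟩⟩
      obtain ⟨r₀⟩ : Nonempty R := Fintype.card_pos_iff.1 (by rw [hR]; exact hr)
      refine fin X X 0 (Matrix.single i₀ r₀ 1) hX hX h0 h0 fun s hs => ?_
      rw [fromBlocks_smul] at hs
      obtain ⟨-, -, e3, -⟩ := fromBlocks_inj.1 hs
      simpa using congrFun (congrFun e3 i₀) r₀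
  rcases Nat.even_or_odd C.rank with ⟨l, hl⟩ | ⟨l, hl⟩
  · have hX : Cls false true (hyp l (1 : Matrix (Fin l) (Fin l) F)) := Cls.of_isA (hyp_isA _)
    have hd : (hyp l (1 : Matrix (Fin l) (Fin l) F)).det ≠ 0 := by
      rw [hyp_one_det]; exact one_ne_zero
    by_cases hlm : l + l = m
    · obtain ⟨X', hX', hd', hne⟩ := hyp_partner (D := (1 : Matrix (Fin l) (Fin l) F))
        (by rw [det_one]; exact one_ne_zero)
        (i := (⟨0, by omega⟩ : Fin l)) (j := ⟨1, by omega⟩) (by simp [Fin.ext_iff]) hX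
      exact key (by simp [hl]) _ X' hX hd hX' (by rw [hd']; exact hd) fun _ => hne
    · exact key (by simp [hl]) _ _ hX hd hX hd fun hc => absurd (by simpa using hc) hlm
  · set Y : Matrix (Unit ⊕ (Fin l ⊕ Fin l)) (Unit ⊕ (Fin l ⊕ Fin l)) F :=
      fromBlocks ((-1 : F) • 1) 0 0 (hyp l 1) with hY
    have hX : Cls false true Y := by
      refine ⟨Sum.elim (fun _ => 1) 0, by simp, ?_⟩
      have e : Y + vecMulVec (Sum.elim (fun _ : Unit => (1 : F)) (0 : Fin l ⊕ Fin l → F))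
            (Sum.elim (fun _ => 1) 0) = fromBlocks 0 0 0 (hyp l 1) := by
        ext i j
        cases i <;> cases j <;> simp [Y, vecMulVec_apply]
      rw [e]
      simpa using (isA_zero (sp := false) (n := Unit) (F := F)).blocks (hyp_isA 1) 0
    have hd : Y.det ≠ 0 := by
      simp [Y, det_fromBlocks_zero₁₂, hyp_one_det]
    by_cases hlm : 2 * l + 1 = m
    · obtain ⟨X', hX', hd', hne⟩ := corner_partner (x := (-1 : F)) (neg_ne_zero.2 one_ne_zero)
        (Sum.inl (⟨0, by omega⟩ : Fin l)) hX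
      exact key (by simp [hl]; omega) _ X' hX hd hX' (by rw [hd']; exact hd) fun _ => hne
    · exact key (by simp [hl]; omega) _ _ hX hd hX hd fun hc =>
        absurd (by simp at hc; omega) hlm

lemma conj_up_vx (g : GL (Ix m) F) (R : Matrix (Fin 2) (Fin m) F) (X : Matrix (Fin m) (Fin m) F)
    (x : Fin m → F) :
    (upE a b R X * g * (upE a b R X)⁻¹).1 *ᵥ vm x 0 0 =
      vm (crA g *ᵥ x + X *ᵥ (crC g *ᵥ x) - Rᵀ *ᵥ (Bm a b *ᵥ (crE g *ᵥ x))) (crC g *ᵥ x)
        (crE g *ᵥ x + R *ᵥ (crC g *ᵥ x)) := by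
  rw [Units.val_mul, Units.val_mul, ← mulVec_mulVec, ← mulVec_mulVec, upE_inv]
  simp only [upE_val, upMat_mulVec, mulVec_zero, add_zero, sub_zero]
  rw [mulVec_vx, upMat_mulVec]

/-- rows vanishing on the kernel of `C` factor through `C` -/
theorem exists_factor {ι : Type*} (C : Matrix (Fin m) (Fin m) F) (E : Matrix ι (Fin m) F)
    (h : ∀ x, C *ᵥ x = 0 → E *ᵥ x = 0) : ∃ R : Matrix ι (Fin m) F, E = R * C := by
  have hrow : ∀ i, ∃ r : Fin m → F, ∀ x, r ⬝ᵥ (C *ᵥ x) = E i ⬝ᵥ x := fun i => by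
    let φ : (Fin m → F) →ₗ[F] F :=
      { toFun := fun x => E i ⬝ᵥ x
        map_add' := fun _ _ => dotProduct_add _ _ _
        map_smul' := fun _ _ => dotProduct_smul _ _ _ }
    have hφ : φ ∈ LinearMap.range (Matrix.toLin' C).dualMap := by
      rw [LinearMap.range_dualMap_eq_dualAnnihilator_ker, Submodule.mem_dualAnnihilator]
      intro x hx
      exact congrFun (h x hx) i
    obtain ⟨ψ, hψ⟩ := hφ
    refine ⟨fun j => ψ (Pi.single j 1), fun x => ?_⟩
    have e : ψ (C *ᵥ x) = E i ⬝ᵥ x := LinearMap.congr_fun hψ x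
    rw [← e]
    conv_rhs => rw [← Finset.univ_sum_single (C *ᵥ x), map_sum]
    rw [dotProduct]
    refine Finset.sum_congr rfl fun j _ => ?_
    rw [show (Pi.single j ((C *ᵥ x) j) : Fin m → F) = (C *ᵥ x) j • Pi.single j 1 by
      simp [← Pi.single_smul], map_smul, smul_eq_mul]
    ring
  choose r hr using hrow
  refine ⟨Matrix.of r, Matrix.ext_iff_mulVec.2 fun x => funext fun i => ?_⟩
  rw [← mulVec_mulVec]
  exact (hr i x).symm

/-- the big cell with non-scalar corner -/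
theorem exists_cellM (hm : 3 ≤ m) (hA : Aniso a b) {g : GL (Ix m) F} (hg : g ∈ OM m a b)
    (h1 : g.1 ≠ 1) (h2 : g.1 ≠ -1) :
    ∃ x ∈ OM m a b, ∃ l ∈ LoS m a b, ∃ (A : GL (Fin m) F) (h : OMid a b)
      (R : Matrix (Fin 2) (Fin m) F) (X : Matrix (Fin m) (Fin m) F), UOK a b R X ∧
      (¬ ∃ c : F, A.1 = c • 1) ∧
      x * g * x⁻¹ = l * levM F m A * midM F m h.1 * upE a b R X := by
  obtain ⟨y, hy, hyC⟩ := exists_crC (by omega) hA hg h1 h2
  set g₁ := y * g * y⁻¹ with hg₁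
  have hg₁m : g₁ ∈ OM m a b := mul_mem (mul_mem hy hg) (inv_mem hy)
  obtain ⟨R₀, hR₀⟩ := exists_factor (crC g₁) (crE g₁) fun x hx => crE_ker hA hg₁m hx
  set U₀ := upE a b (-R₀) (-((-R₀)ᵀ * Gm a b * -R₀))
  have hU₀ : U₀ ∈ OM m a b := upE_mem.2 (uok_gram _)
  set g₂ := U₀ * g₁ * U₀⁻¹ with hg₂
  have hg₂m : g₂ ∈ OM m a b := mul_mem (mul_mem hU₀ hg₁m) (inv_mem hU₀)
  have hx := fun x => vm_inj.1 ((mulVec_vx g₂ x).symm.trans (conj_up_vx g₁ (-R₀) _ x))
  have hE : crE g₂ = 0 := Matrix.ext_iff_mulVec.2 fun x => by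
    rw [(hx x).2.2, hR₀, ← mulVec_mulVec, neg_mulVec, add_neg_cancel, zero_mulVec]
  have hC : crC g₂ ≠ 0 := by
    rw [show crC g₂ = crC g₁ from Matrix.ext_iff_mulVec.2 fun x => (hx x).2.1]; exact hyC
  have hAC : IsA false ((crA g₂)ᵀ * crC g₂) := by
    obtain ⟨d, t⟩ := alt_of_quad (X := (crA g₂)ᵀ * crC g₂) fun v => by
      have := quad_vx hg₂m v
      rw [hE, zero_mulVec, qm_zero, add_zero] at this
      rw [← dot_mm]; exact this
    exact ⟨t, fun _ => d⟩
  have hinj : ∀ v, crA g₂ *ᵥ v = 0 → crC g₂ *ᵥ v = 0 → v = 0 := fun v hA hC => by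
    have h : g₂.1 *ᵥ vm v 0 0 = g₂.1 *ᵥ vm 0 0 0 := by
      rw [mulVec_vx, mulVec_vx, hE, hA, hC]; simp
    exact (vm_inj.1 (mulVec_injM g₂ h)).1
  obtain ⟨S, ⟨w, -, hw⟩, hdet, hns⟩ := exists_corner _ _ hC hAC hinj hm
  set R₁ : Matrix (Fin 2) (Fin m) F := vecMulVec (Pi.single 0 1) w
  have hok : UOK a b R₁ S := fun v => by
    rw [vecMulVec_mulVec, op_smul_eq_smul, qm_smul, show qm a b (Pi.single 0 1 : Fin 2 → F) = 1 by
      rw [qm_apply]; simp]
    have h := hw.dot_self v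
    rw [add_mulVec, dotProduct_add, vecMulVec_mulVec, op_smul_eq_smul, dotProduct_smul, smul_eq_mul,
      dotProduct_comm v w] at h
    linear_combination h
  set U := upE a b R₁ S
  set g₃ := U * g₂ * U⁻¹ with hg₃
  have hg₃m : g₃ ∈ OM m a b := mul_mem (mul_mem (upE_mem.2 hok) hg₂m) (inv_mem (upE_mem.2 hok))
  have hcr : crA g₃ = crA g₂ + S * crC g₂ := Matrix.ext_iff_mulVec.2 fun x => by
    rw [(vm_inj.1 ((mulVec_vx g₃ x).symm.trans (conj_up_vx g₂ R₁ S x))).1, hE, zero_mulVec,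
      mulVec_zero, mulVec_zero, sub_zero, add_mulVec, mulVec_mulVec]
  let A := Matrix.GeneralLinearGroup.mkOfDetNeZero (crA g₃) (by rw [hcr]; exact hdet)
  obtain ⟨hl, k, R, X, hk, hX, e⟩ := ldu hg₃m (M := A) rfl
  refine ⟨U * U₀ * y, mul_mem (mul_mem (upE_mem.2 hok) hU₀) hy, _, mem_LoS.2 ⟨_, _, hl, rfl⟩, A,
    ⟨k, hk⟩, R, X, hX, ?_, ?_⟩
  · show ¬ ∃ c : F, crA g₃ = c • 1
    rw [hcr]; exact hns
  · rw [← e, hg₃, hg₂, hg₁]; group

end CfsgLib.KnownB.OreOmegaMinus
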