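import Cfsg.Agent.Lib.KnownB.OreOmegaMinus.Moves
import Cfsg.Agent.Lib.KnownB.OreOmega.DefsPlus

/-!
Commutators from a corner together with a middle element.
-/

set_option autoImplicit false
set_option linter.unusedSectionVars false

namespace CfsgLib.KnownB.OreOmegaMinus

open Matrix QuadraticMap CfsgLib.Geometry CfsgLib.Thompson CfsgLib.KnownB.OreSp CfsgLib.KnownB.OreOmega

variable {F : Type*} [Field F] {m : ℕ} {a b : F}

/-- `k` and `X` move every middle row block -/
def FreeRow (k : Matrix (Fin 2) (Fin 2) F) (X : Matrix (Fin m) (Fin m) F) : Prop :=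
  (∀ R : Matrix (Fin 2) (Fin m) F, k * R * Xᵀ = R → R = 0) ∧
    ∀ R : Matrix (Fin 2) (Fin m) F, k * R = R * X → R = 0

variable (a b) in
/-- a corner with a middle element which is a square -/
def CornerM (M : Matrix (Fin m) (Fin m) F) : Prop :=
  ∃ (X P : Matrix (Fin m) (Fin m) F) (j : OMid a b), MovesAlt X ∧ FreeRow (j * j).1.1 X ∧
    IsSquare X.det ∧ X.det ≠ 0 ∧ IsSquare P.det ∧ P.det ≠ 0 ∧ M * (P * X) = X * P

theorem vec_eq_zero {r : Fin m → F} (h : vecMulVec r r = 0) : r = 0 :=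
  funext fun i => mul_self_eq_zero.1 (by simpa [vecMulVec_apply] using congrFun (congrFun h i) i)

theorem fixed_vec_eq_zero {Φ : Polynomial F} (hΦ : Apart Φ) {X : Matrix (Fin m) (Fin m) F}
    (hX : IsUnit X.det) (hz : Polynomial.aeval X Φ = 0) {r : Fin m → F} (h : Xᵀ *ᵥ r = r) : r = 0 :=
  vec_eq_zero (eq_zero_of_form hΦ hX hz (by
    rw [Matrix.mul_vecMulVec, Matrix.vecMulVec_mul, h, ← mulVec_transpose, h]))

/-- apart corners need no middle element -/
theorem CornerM.of_corner {M : Matrix (Fin m) (Fin m) F} (h : Corner M) : CornerM a b M := by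
  obtain ⟨Φ, X, P, hΦ, hXs, hX0, hPs, hP0, hz, e⟩ := h
  have hu : IsUnit X.det := isUnit_iff_ne_zero.2 hX0
  have hP := Corner.plus ⟨Φ, X, P, hΦ, hXs, hX0, hPs, hP0, hz, e⟩
  refine ⟨X, P, 1, ⟨fun T _ hT => eq_zero_of_form hΦ hu hz hT, fun T _ hT => ?_⟩, ⟨fun R hR => ?_,
    fun R hR => ?_⟩, hXs, hX0, hPs, hP0, e⟩
  · exact eq_zero_of_form hΦ (isUnit_det_transpose _ hu)
      (by rw [aeval_transpose, hz, transpose_zero]) (by rw [transpose_transpose]; exact hT)
  · simp only [mul_one, OneMemClass.coe_one, Units.val_one, Matrix.one_mul] at hR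
    refine Matrix.ext fun i => congrFun ?_
    refine fixed_vec_eq_zero hΦ (isUnit_det_transpose _ hu)
      (by rw [aeval_transpose, hz, transpose_zero]) ?_
    rw [transpose_transpose]
    funext l
    have := congrFun (congrFun hR i) l
    rw [← this]
    simp [Matrix.mulVec, dotProduct, Matrix.mul_apply, mul_comm]
  · simp only [mul_one, OneMemClass.coe_one, Units.val_one, Matrix.one_mul] at hR
    refine Matrix.ext fun i => congrFun ?_
    refine fixed_vec_eq_zero hΦ hu hz ?_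
    funext l
    have := congrFun (congrFun hR i) l
    conv_rhs => rw [this]
    simp [Matrix.mulVec, dotProduct, Matrix.mul_apply, mul_comm]

theorem FreeRow.one {X : Matrix (Fin m) (Fin m) F} (h : IsUnit (X - 1).det) :
    FreeRow (1 : Matrix (Fin 2) (Fin 2) F) X := by
  have h' : IsUnit (Xᵀ - 1).det := by
    rw [← transpose_one, ← transpose_sub, det_transpose]; exact h
  constructor <;> intro R hR
  · rw [Matrix.one_mul] at hR
    have e : R * (Xᵀ - 1) = 0 := by rw [Matrix.mul_sub, Matrix.mul_one, hR, sub_self]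
    have := congrArg (· * (Xᵀ - 1)⁻¹) e
    simpa [Matrix.mul_assoc, Matrix.mul_nonsing_inv _ h'] using this
  · rw [Matrix.one_mul] at hR
    have e : R * (X - 1) = 0 := by rw [Matrix.mul_sub, Matrix.mul_one, ← hR, sub_self]
    have := congrArg (· * (X - 1)⁻¹) e
    simpa [Matrix.mul_assoc, Matrix.mul_nonsing_inv _ h] using this

theorem FreeRow.three {k : Matrix (Fin 2) (Fin 2) F} (hk : k * k + k + 1 = 0)
    {X : Matrix (Fin m) (Fin m) F} (h : IsUnit (X * X + X + 1).det) : FreeRow k X := by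
  have h' : IsUnit (Xᵀ * Xᵀ + Xᵀ + 1).det := by
    rw [← transpose_one, ← transpose_mul, ← transpose_add, ← transpose_add, det_transpose]; exact h
  constructor <;> intro R hR
  · have e : R * (Xᵀ * Xᵀ + Xᵀ + 1) = 0 := by
      set k' := k * k
      have h3 : k' * k = 1 := by
        have e1 : (k * k + k + 1) * k - (k * k + k + 1) = k * k * k - 1 := by
          rw [Matrix.add_mul, Matrix.add_mul, Matrix.one_mul]; abel
        rw [hk, Matrix.zero_mul, sub_self] at e1
        exact sub_eq_zero.1 e1.symm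
      have e2 : R * Xᵀ = k' * R := by
        conv_lhs => rw [← Matrix.one_mul R, ← h3]
        rw [Matrix.mul_assoc k' k, Matrix.mul_assoc k', hR]
      have e3 : k' * k' + k' + 1 = 0 := by
        have : k' * k' = k := by
          rw [show k' * k' = (k' * k) * k from (Matrix.mul_assoc _ _ _).symm, h3, Matrix.one_mul]
        rw [this, ← hk]; abel
      rw [Matrix.mul_add, Matrix.mul_add, ← Matrix.mul_assoc, e2, Matrix.mul_assoc, e2,
        ← Matrix.mul_assoc, ← Matrix.add_mul, Matrix.mul_one,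
        show (k' * k' + k') * R + R = (k' * k' + k' + 1) * R by
          simp only [Matrix.add_mul, Matrix.one_mul], e3, Matrix.zero_mul]
    have := congrArg (· * (Xᵀ * Xᵀ + Xᵀ + 1)⁻¹) e
    simpa [Matrix.mul_assoc, Matrix.mul_nonsing_inv _ h'] using this
  · have e : R * (X * X + X + 1) = 0 := by
      rw [Matrix.mul_add, Matrix.mul_add, ← Matrix.mul_assoc, ← hR, Matrix.mul_assoc, ← hR,
        ← Matrix.mul_assoc, ← Matrix.add_mul, Matrix.mul_one,
        show (k * k + k) * R + R = (k * k + k + 1) * R by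
          simp only [Matrix.add_mul, Matrix.one_mul], hk, Matrix.zero_mul]
    have := congrArg (· * (X * X + X + 1)⁻¹) e
    simpa [Matrix.mul_assoc, Matrix.mul_nonsing_inv _ h] using this

theorem fpf_upM {A : GL (Fin m) F} {k : OMid a b} (hA : MovesAlt A.1) (hk : FreeRow k.1.1 A.1) :
    Fpf (UpS m a b) (levM F m A * midM F m k.1) := by
  have norm : ∀ r ∈ UpS m a b,
      levM F m A * midM F m k.1 * r * (levM F m A * midM F m k.1)⁻¹ ∈ UpS m a b := by
    rintro _ ⟨R, X, h, rfl⟩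
    rw [show levM F m A * midM F m k.1 * upE a b R X * (levM F m A * midM F m k.1)⁻¹ =
      levM F m A * (midM F m k.1 * upE a b R X * (midM F m k.1)⁻¹) * (levM F m A)⁻¹ by group,
      mid_conj_up k.2]
    refine lev_norm_up A ⟨_, _, upE_mem.1 ?_, rfl⟩
    rw [← mid_conj_up k.2]
    exact mul_mem (mul_mem (midM_mem.2 k.2) (upE_mem.2 h)) (inv_mem (midM_mem.2 k.2))
  refine ⟨norm, fun g hg e => ?_⟩
  obtain ⟨R, X, h, rfl⟩ := hg
  have h3 : levM F m A * midM F m k.1 * upE a b R X * (levM F m A * midM F m k.1)⁻¹ = upE a b R X :=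
    mul_inv_eq_iff_eq_mul.2 e
  rw [show levM F m A * midM F m k.1 * upE a b R X * (levM F m A * midM F m k.1)⁻¹ =
      levM F m A * (midM F m k.1 * upE a b R X * (midM F m k.1)⁻¹) * (levM F m A)⁻¹ by group,
      mid_conj_up k.2, lev_conj_up] at h3
  obtain ⟨e1, e2⟩ := upE_inj h3
  have hR : R = 0 := hk.1 R e1
  subst hR
  obtain ⟨d, t⟩ := alt_of_quad (X := X) fun y => by simpa [qm_zero] using h y
  rw [hA.2 X ⟨t, d⟩ e2, upE_zero]

theorem fpf_loM {A : GL (Fin m) F} {k : OMid a b} (hA : MovesAlt A.1) (hk : FreeRow k.1.1 A.1) :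
    Fpf (LoS m a b) (levM F m A * midM F m k.1) := by
  have hA' : MovesAlt (ti A).1 := by
    refine ⟨fun T hT e => hA.2 T hT ?_, fun T hT e => hA.1 T hT ?_⟩
    · rw [ti_val, transpose_transpose] at e
      calc A.1 * T * A.1ᵀ = A.1 * ((A⁻¹).1 * T * (A⁻¹).1ᵀ) * A.1ᵀ := by rw [e]
        _ = (A.1 * (A⁻¹).1) * T * (A.1 * (A⁻¹).1)ᵀ := by
            rw [transpose_mul]; simp only [Matrix.mul_assoc]
        _ = T := by rw [Units.mul_inv, transpose_one, Matrix.one_mul, Matrix.mul_one]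
    · rw [ti_val, transpose_transpose] at e
      calc A.1ᵀ * T * A.1 = A.1ᵀ * ((A⁻¹).1ᵀ * T * (A⁻¹).1) * A.1 := by rw [e]
        _ = ((A⁻¹).1 * A.1)ᵀ * T * ((A⁻¹).1 * A.1) := by
            rw [transpose_mul]; simp only [Matrix.mul_assoc]
        _ = T := by rw [Units.inv_mul, transpose_one, Matrix.one_mul, Matrix.mul_one]
  have hk' : FreeRow k.1.1 (ti A).1 := by
    refine ⟨fun R e => hk.2 R ?_, fun R e => hk.1 R ?_⟩
    · rw [ti_val, transpose_transpose] at e
      conv_rhs => rw [← e]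
      rw [Matrix.mul_assoc, Units.inv_mul, Matrix.mul_one]
    · rw [ti_val] at e
      rw [e, Matrix.mul_assoc, ← transpose_mul, Units.mul_inv, transpose_one, Matrix.mul_one]
  have hu := fpf_upM hA' hk'
  have ec : flp F m * (levM F m A * midM F m k.1) * (flp F m)⁻¹ =
      levM F m (ti A) * midM F m k.1 := by
    rw [← flp_conj_lev A]
    nth_rw 2 [← flp_conj_mid (F := F) (m := m) k.1]
    group
  refine ⟨fun r hr => LoS_conj.2 ?_, fun g hg e => ?_⟩
  · rw [show flp F m * (levM F m A * midM F m k.1 * r * (levM F m A * midM F m k.1)⁻¹) *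
      (flp F m)⁻¹ = (flp F m * (levM F m A * midM F m k.1) * (flp F m)⁻¹) *
        (flp F m * r * (flp F m)⁻¹) * (flp F m * (levM F m A * midM F m k.1) * (flp F m)⁻¹)⁻¹ by
        group, ec]
    exact hu.norm _ (LoS_conj.1 hr)
  · have h := hu.fix _ (LoS_conj.1 hg) (by
      rw [← ec]
      calc flp F m * (levM F m A * midM F m k.1) * (flp F m)⁻¹ * (flp F m * g * (flp F m)⁻¹) =
            flp F m * (levM F m A * midM F m k.1 * g) * (flp F m)⁻¹ := by group
        _ = flp F m * (g * (levM F m A * midM F m k.1)) * (flp F m)⁻¹ := by rw [e]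
        _ = _ := by group)
    exact conj_eq_one_iff.1 h

variable [Fintype F] (hF : GoodForm (qM m a b))

/-- being a commutator of two elements with trivial invariant -/
def IsCommM (g : OM m a b) : Prop :=
  ∃ x y : OM m a b, hF.invt x = 1 ∧ hF.invt y = 1 ∧ g = x * y * x⁻¹ * y⁻¹

theorem IsCommM.of_conj {g x : OM m a b} (h : IsCommM hF (x * g * x⁻¹)) : IsCommM hF g := by
  obtain ⟨u, w, hu, hw, e⟩ := h
  refine ⟨x⁻¹ * u * x, x⁻¹ * w * x, ?_, ?_, ?_⟩
  · simpa using (hF.invt_conj x⁻¹ u).trans hu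
  · simpa using (hF.invt_conj x⁻¹ w).trans hw
  · calc g = x⁻¹ * (x * g * x⁻¹) * x := by group
      _ = _ := by rw [e]; group

/-- the covering argument -/
theorem comm_of_cornerM (hm : 3 ≤ m) {g : OM m a b} {l : GL (Ix m) F} (hl : l ∈ LoS m a b)
    {M : GL (Fin m) F} (hM : CornerM a b M.1) {R : Matrix (Fin 2) (Fin m) F}
    {X : Matrix (Fin m) (Fin m) F} (hX : UOK a b R X)
    (e : g.1 = l * levM F m M * upE a b R X) : IsCommM hF g := by
  obtain ⟨Y, P, j, hY, hk, hYs, hY0, hPs, hP0, hMP⟩ := hM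
  set k := j * j with hkd
  set Yg := Matrix.GeneralLinearGroup.mkOfDetNeZero Y hY0 with hYg
  set Pg := Matrix.GeneralLinearGroup.mkOfDetNeZero P hP0 with hPg
  have hMg : M = Yg * Pg * Yg⁻¹ * Pg⁻¹ := by
    have h : M * (Pg * Yg) = Yg * Pg := Units.ext hMP
    rw [show Yg * Pg * Yg⁻¹ * Pg⁻¹ = (Yg * Pg) * (Pg * Yg)⁻¹ by group, ← h]
    group
  have fl := fpf_loM (A := Yg) (k := k) hY hk
  have hPn : ∀ r, levM F m Pg * r * (levM F m Pg)⁻¹ ∈ UpS m a b ↔ r ∈ UpS m a b := fun r =>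
    ⟨fun h => by simpa [mul_assoc] using lev_norm_up Pg⁻¹ h, lev_norm_up Pg⟩
  have fu := ((fpf_upM (A := Yg) (k := k) hY hk).inv).conj (k := levM F m Pg) hPn
  obtain ⟨u, hu, eu⟩ := fl.exists_left hl
  obtain ⟨w, hw, ew⟩ := fu.exists_right (show upE a b R X ∈ UpS m a b from ⟨R, X, hX, rfl⟩)
  let U : OM m a b := ⟨u, LoS_le hu⟩
  let W : OM m a b := ⟨w, UpS_le hw⟩
  let Z : OM m a b := levO' m a b Yg * midO m a b k
  have hZ : hF.invt Z = 1 := by
    rw [map_mul, invt_levO_square hF hm Yg hYs, one_mul, hkd, map_mul, map_mul]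
    exact Prod.ext (sqClass_mul_self _)
      ((by decide : ∀ t : Multiplicative (ZMod 2), t * t = 1) _)
  have hP : hF.invt (levO' m a b Pg) = 1 := invt_levO_square hF hm Pg hPs
  have hU : hF.invt U = 1 := invt_loS hF hm hu
  have hW : hF.invt W = 1 := invt_upS hF hm hw
  refine ⟨U * Z * U⁻¹, W * levO' m a b Pg * U⁻¹, ?_, ?_, Subtype.ext ?_⟩
  · rw [hF.invt_conj]; exact hZ
  · rw [map_mul, map_mul, map_inv, hW, hP, hU]; simp
  · show g.1 = (u * (levM F m Yg * midM F m k.1) * u⁻¹) * (w * levM F m Pg * u⁻¹) *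
      (u * (levM F m Yg * midM F m k.1) * u⁻¹)⁻¹ * (w * levM F m Pg * u⁻¹)⁻¹
    rw [show (u * (levM F m Yg * midM F m k.1) * u⁻¹) * (w * levM F m Pg * u⁻¹) *
      (u * (levM F m Yg * midM F m k.1) * u⁻¹)⁻¹ * (w * levM F m Pg * u⁻¹)⁻¹ =
        (u * (levM F m Yg * midM F m k.1) * u⁻¹) *
          (w * (levM F m Pg * (levM F m Yg * midM F m k.1)⁻¹ * (levM F m Pg)⁻¹) * w⁻¹) by group,
      eu, ew, e, hMg, map_mul, map_mul, map_mul, map_inv, map_inv]
    simp only [_root_.mul_inv_rev]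
    have c : levM F m Pg * midM F m k.1 = midM F m k.1 * levM F m Pg := lev_mid_comm _ _
    calc l * (levM F m Yg * levM F m Pg * (levM F m Yg)⁻¹ * (levM F m Pg)⁻¹) * upE a b R X =
          l * (levM F m Yg * (levM F m Pg * midM F m k.1) * (midM F m k.1)⁻¹ * (levM F m Yg)⁻¹ *
            (levM F m Pg)⁻¹) * upE a b R X := by group
      _ = _ := by rw [c]; group

end CfsgLib.KnownB.OreOmegaMinus
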