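import Cfsg.Agent.Lib.KnownB.Thompson.Odd

/-!
The minus form in Siegel coordinates: an anisotropic plane and `m` hyperbolic planes.
-/

set_option autoImplicit false
set_option linter.unusedSectionVars false

namespace CfsgLib.KnownB.OreOmegaMinus

open Matrix QuadraticMap CfsgLib.Geometry CfsgLib.Thompson

variable {F : Type*} [Field F] {m : ℕ} {a b : F}

/-- the index type -/
abbrev Ix (m : ℕ) : Type := (Fin m ⊕ Fin m) ⊕ Fin 2

/-- coordinates -/
def vm (x y : Fin m → F) (z : Fin 2 → F) : Ix m → F := Sum.elim (Sum.elim x y) z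

lemma vm_eta (v : Ix m → F) :
    v = vm (fun i => v (Sum.inl (Sum.inl i))) (fun i => v (Sum.inl (Sum.inr i)))
      (fun i => v (Sum.inr i)) := by
  funext s
  rcases s with (s | s) | s <;> rfl

lemma vm_inj {x x' y y' : Fin m → F} {z z' : Fin 2 → F} :
    vm x y z = vm x' y' z' ↔ x = x' ∧ y = y' ∧ z = z' := by
  refine ⟨fun h => ⟨funext fun i => congrFun h (Sum.inl (Sum.inl i)),
    funext fun i => congrFun h (Sum.inl (Sum.inr i)), funext fun i => congrFun h (Sum.inr i)⟩, ?_⟩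
  rintro ⟨rfl, rfl, rfl⟩; rfl

lemma vm_add (x x' y y' : Fin m → F) (z z' : Fin 2 → F) :
    vm x y z + vm x' y' z' = vm (x + x') (y + y') (z + z') := by
  funext s
  rcases s with (s | s) | s <;> rfl

lemma vm_smul (c : F) (x y : Fin m → F) (z : Fin 2 → F) :
    c • vm x y z = vm (c • x) (c • y) (c • z) := by
  funext s
  rcases s with (s | s) | s <;> rfl

lemma extM {M N : Matrix (Ix m) (Ix m) F}
    (h : ∀ x y z, M *ᵥ vm x y z = N *ᵥ vm x y z) : M = N :=
  Matrix.ext_iff_mulVec.2 fun v => by rw [vm_eta v]; exact h _ _ _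

lemma glM {g h : GL (Ix m) F} (e : ∀ x y z, g.1 *ᵥ vm x y z = h.1 *ᵥ vm x y z) : g = h :=
  Units.ext (extM e)

lemma mulVec_injM (g : GL (Ix m) F) {v w : Ix m → F} (h : g.1 *ᵥ v = g.1 *ᵥ w) : v = w := by
  have := congrArg (g⁻¹.1 *ᵥ ·) h
  simpa [mulVec_mulVec, ← Units.val_mul] using this

section Middle

variable (a b) in
/-- triangular matrix of the middle form -/
def Gm : Matrix (Fin 2) (Fin 2) F := !![1, a; 0, b]

variable (a b) in
/-- Gram matrix of the middle form -/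
def Bm : Matrix (Fin 2) (Fin 2) F := Gm a b + (Gm a b)ᵀ

variable (a b) in
/-- the middle form -/
def qm (z : Fin 2 → F) : F := z ⬝ᵥ (Gm a b *ᵥ z)

variable (a b) in
/-- anisotropy of the middle form -/
def Aniso : Prop := ∀ z : Fin 2 → F, qm a b z = 0 → z = 0

lemma qm_apply (z : Fin 2 → F) : qm a b z = z 0 ^ 2 + a * z 0 * z 1 + b * z 1 ^ 2 := by
  simp [qm, Gm, Matrix.mulVec, dotProduct, Fin.sum_univ_two]
  ring

lemma aniso_of (hab : ∀ z₁ z₂ : F, z₁ ^ 2 + a * z₁ * z₂ + b * z₂ ^ 2 = 0 → z₁ = 0 ∧ z₂ = 0) :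
    Aniso a b := by
  intro z hz
  rw [qm_apply] at hz
  obtain ⟨h0, h1⟩ := hab _ _ hz
  funext i
  fin_cases i
  · exact h0
  · exact h1

lemma Bm_transpose : (Bm a b)ᵀ = Bm a b := by
  rw [Bm, transpose_add, transpose_transpose, add_comm]

lemma bm_comm (z z' : Fin 2 → F) : z ⬝ᵥ (Bm a b *ᵥ z') = z' ⬝ᵥ (Bm a b *ᵥ z) := by
  rw [dotProduct_mulVec, ← mulVec_transpose, Bm_transpose, dotProduct_comm]

lemma qm_add (z z' : Fin 2 → F) :
    qm a b (z + z') = qm a b z + qm a b z' + z ⬝ᵥ (Bm a b *ᵥ z') := by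
  have e : z' ⬝ᵥ (Gm a b *ᵥ z) = z ⬝ᵥ ((Gm a b)ᵀ *ᵥ z') := by
    rw [dotProduct_mulVec, ← mulVec_transpose, dotProduct_comm]
  simp only [qm, Bm, mulVec_add, dotProduct_add, add_dotProduct, add_mulVec]
  rw [e]; ring

lemma qm_smul (c : F) (z : Fin 2 → F) : qm a b (c • z) = c * c * qm a b z := by
  simp only [qm, mulVec_smul, dotProduct_smul, smul_dotProduct, smul_eq_mul]; ring

lemma qm_neg (z : Fin 2 → F) : qm a b (-z) = qm a b z := by
  rw [← neg_one_smul F, qm_smul]; ring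

lemma bm_self (z : Fin 2 → F) : z ⬝ᵥ (Bm a b *ᵥ z) = 2 * qm a b z := by
  have h := qm_add (a := a) (b := b) z z
  rw [← two_smul F z, qm_smul] at h
  linear_combination -h

lemma qm_zero : qm a b (0 : Fin 2 → F) = 0 := by simp [qm]

lemma bilin_eq_zero {n : Type*} [Fintype n] [DecidableEq n] {u : n → F}
    (h : ∀ v, u ⬝ᵥ v = 0) : u = 0 :=
  funext fun i => by simpa using h (Pi.single i 1)

end Middle

variable (m a b) in
/-- the form -/
noncomputable abbrev qM : QuadraticForm F (Ix m → F) := matQuad (minusMat m F a b)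

lemma qM_vm (x y : Fin m → F) (z : Fin 2 → F) : qM m a b (vm x y z) = x ⬝ᵥ y + qm a b z := by
  simp [qM, matQuad_apply, minusMat, plusMat, qm, Gm, vm, fromBlocks_mulVec, dotProduct,
    Fintype.sum_sum_type]

lemma polar_vm (x x' y y' : Fin m → F) (z z' : Fin 2 → F) :
    polar (qM m a b) (vm x y z) (vm x' y' z') = x ⬝ᵥ y' + x' ⬝ᵥ y + z ⬝ᵥ (Bm a b *ᵥ z') := by
  simp only [QuadraticMap.polar]
  rw [vm_add, qM_vm, qM_vm, qM_vm, qm_add]
  simp only [add_dotProduct, dotProduct_add]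
  ring

variable (m a b) in
/-- the isometry group -/
noncomputable abbrev OM : Subgroup (GL (Ix m) F) := Cfsg.isometryGroup F ⇑(qM m a b)

lemma mem_OM {g : GL (Ix m) F} :
    g ∈ OM m a b ↔ ∀ x y z, qM m a b (g.1 *ᵥ vm x y z) = x ⬝ᵥ y + qm a b z := by
  refine ⟨fun h x y z => (h (vm x y z) (vm x y z)).trans (qM_vm x y z), fun h u _ => ?_⟩
  show qM m a b (g.1 *ᵥ u) = qM m a b u
  rw [vm_eta u, h, qM_vm]

lemma polar_map {g : GL (Ix m) F} (hg : g ∈ OM m a b) (u v : Ix m → F) :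
    polar (qM m a b) (g.1 *ᵥ u) (g.1 *ᵥ v) = polar (qM m a b) u v := by
  have h : ∀ w, qM m a b (g.1 *ᵥ w) = qM m a b w := fun w => hg w w
  simp only [QuadraticMap.polar, ← mulVec_add, h]

section Maps

variable (F m) in
/-- embedding of the split part -/
def exS : GL (Fin m ⊕ Fin m) F →* GL (Ix m) F where
  toFun g := ⟨fromBlocks g.1 0 0 1, fromBlocks (g⁻¹).1 0 0 1,
    by simp [fromBlocks_multiply], by simp [fromBlocks_multiply]⟩
  map_one' := Units.ext (by simp)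
  map_mul' M N := Units.ext (by simp [fromBlocks_multiply])

variable (F m) in
/-- embedding of the middle part -/
def midM : GL (Fin 2) F →* GL (Ix m) F where
  toFun g := ⟨fromBlocks 1 0 0 g.1, fromBlocks 1 0 0 (g⁻¹).1,
    by simp [fromBlocks_multiply], by simp [fromBlocks_multiply]⟩
  map_one' := Units.ext (by simp)
  map_mul' M N := Units.ext (by simp [fromBlocks_multiply])

variable (F m) in
/-- Levi elements -/
noncomputable def levM : GL (Fin m) F →* GL (Ix m) F := (exS F m).comp (levH F m)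

variable (F m) in
/-- the flip -/
def flp : GL (Ix m) F := exS F m (flipM F m false)

lemma levM_mulVec (M : GL (Fin m) F) (x y : Fin m → F) (z : Fin 2 → F) :
    (levM F m M).1 *ᵥ vm x y z = vm (M.1 *ᵥ x) ((ti M).1 *ᵥ y) z := by
  show fromBlocks (levH F m M).1 0 0 1 *ᵥ vm x y z = _
  rw [levH_val]
  simp [vm, fromBlocks_mulVec]

lemma midM_mulVec (h : GL (Fin 2) F) (x y : Fin m → F) (z : Fin 2 → F) :
    (midM F m h).1 *ᵥ vm x y z = vm x y (h.1 *ᵥ z) := by
  show fromBlocks 1 0 0 h.1 *ᵥ vm x y z = _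
  simp [vm, fromBlocks_mulVec]

lemma flp_mulVec (x y : Fin m → F) (z : Fin 2 → F) :
    (flp F m).1 *ᵥ vm x y z = vm y x z := by
  show fromBlocks (flipM F m false).1 0 0 1 *ᵥ vm x y z = _
  rw [flipM_val]
  simp [vm, fromBlocks_mulVec, eps]

lemma flp_sq : flp F m * flp F m = 1 :=
  glM fun x y z => by
    rw [Units.val_mul, ← mulVec_mulVec, flp_mulVec, flp_mulVec, Units.val_one, one_mulVec]

lemma flp_inv : (flp F m)⁻¹ = flp F m := inv_eq_of_mul_eq_one_left flp_sq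

lemma lev_mid_comm (M : GL (Fin m) F) (h : GL (Fin 2) F) :
    levM F m M * midM F m h = midM F m h * levM F m M :=
  glM fun x y z => by
    simp only [Units.val_mul, ← mulVec_mulVec, levM_mulVec, midM_mulVec]

lemma flp_conj_lev (M : GL (Fin m) F) : flp F m * levM F m M * (flp F m)⁻¹ = levM F m (ti M) := by
  rw [flp_inv]
  refine glM fun x y z => ?_
  simp only [Units.val_mul, ← mulVec_mulVec, levM_mulVec, flp_mulVec, ti_ti]

lemma flp_conj_mid (h : GL (Fin 2) F) : flp F m * midM F m h * (flp F m)⁻¹ = midM F m h := by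
  rw [flp_inv]
  refine glM fun x y z => ?_
  simp only [Units.val_mul, ← mulVec_mulVec, midM_mulVec, flp_mulVec]

end Maps

section Unipotent

variable (a b) in
/-- the upper unipotent matrix -/
def upMat (R : Matrix (Fin 2) (Fin m) F) (X : Matrix (Fin m) (Fin m) F) : Matrix (Ix m) (Ix m) F :=
  fromBlocks (fromBlocks 1 X 0 1) (fromRows (-(Rᵀ * Bm a b)) 0) (fromCols 0 R) 1

lemma upMat_mulVec (R : Matrix (Fin 2) (Fin m) F) (X : Matrix (Fin m) (Fin m) F) (x y : Fin m → F)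
    (z : Fin 2 → F) :
    upMat a b R X *ᵥ vm x y z = vm (x + X *ᵥ y - Rᵀ *ᵥ (Bm a b *ᵥ z)) y (z + R *ᵥ y) := by
  funext s
  rcases s with (s | s) | s <;>
    simp [upMat, vm, fromBlocks_mulVec, fromRows_mulVec, fromCols_mulVec, ← mulVec_mulVec,
      neg_mulVec] <;> ring

lemma upMat_mul (R R' : Matrix (Fin 2) (Fin m) F) (X X' : Matrix (Fin m) (Fin m) F) :
    upMat a b R X * upMat a b R' X' = upMat a b (R + R') (X + X' - Rᵀ * Bm a b * R') := by
  refine extM fun x y z => ?_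
  rw [← mulVec_mulVec, upMat_mulVec, upMat_mulVec, upMat_mulVec, vm_inj]
  refine ⟨?_, rfl, ?_⟩
  · simp only [mulVec_add, add_mulVec, sub_mulVec, transpose_add, ← mulVec_mulVec]
    abel
  · rw [add_mulVec]; abel

lemma upMat_zero : upMat a b (0 : Matrix (Fin 2) (Fin m) F) 0 = 1 :=
  extM fun x y z => by rw [upMat_mulVec]; simp

variable (a b) in
/-- upper unipotent element -/
def upE (R : Matrix (Fin 2) (Fin m) F) (X : Matrix (Fin m) (Fin m) F) : GL (Ix m) F :=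
  ⟨upMat a b R X, upMat a b (-R) (-X - Rᵀ * Bm a b * R),
    by rw [upMat_mul, ← upMat_zero]; congr 1 <;> simp; abel,
    by rw [upMat_mul, ← upMat_zero]; congr 1 <;> simp [Matrix.neg_mul]; abel⟩

lemma upE_val (R : Matrix (Fin 2) (Fin m) F) (X : Matrix (Fin m) (Fin m) F) :
    (upE a b R X).1 = upMat a b R X := rfl

lemma upE_inv (R : Matrix (Fin 2) (Fin m) F) (X : Matrix (Fin m) (Fin m) F) :
    (upE a b R X)⁻¹ = upE a b (-R) (-X - Rᵀ * Bm a b * R) := Units.ext rfl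

lemma upE_mul (R R' : Matrix (Fin 2) (Fin m) F) (X X' : Matrix (Fin m) (Fin m) F) :
    upE a b R X * upE a b R' X' = upE a b (R + R') (X + X' - Rᵀ * Bm a b * R') :=
  Units.ext (upMat_mul R R' X X')

lemma upE_zero : upE a b (0 : Matrix (Fin 2) (Fin m) F) 0 = 1 := Units.ext upMat_zero

lemma upE_inj {R R' : Matrix (Fin 2) (Fin m) F} {X X' : Matrix (Fin m) (Fin m) F}
    (h : upE a b R X = upE a b R' X') : R = R' ∧ X = X' := by
  have h4 : ∀ y, upMat a b R X *ᵥ vm 0 y 0 = upMat a b R' X' *ᵥ vm 0 y 0 := fun y => by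
    rw [← upE_val, h, upE_val]
  constructor <;> refine Matrix.ext_iff_mulVec.2 fun y => ?_
  · have := (vm_inj.1 ((upMat_mulVec _ _ _ _ _).symm.trans
      ((h4 y).trans (upMat_mulVec _ _ _ _ _)))).2.2
    simpa using this
  · have := (vm_inj.1 ((upMat_mulVec _ _ _ _ _).symm.trans
      ((h4 y).trans (upMat_mulVec _ _ _ _ _)))).1
    simpa using this

variable (a b) in
/-- the condition for an upper unipotent element to be an isometry -/
def UOK (R : Matrix (Fin 2) (Fin m) F) (X : Matrix (Fin m) (Fin m) F) : Prop :=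
  ∀ y, qm a b (R *ᵥ y) + y ⬝ᵥ (X *ᵥ y) = 0

lemma upE_mem {R : Matrix (Fin 2) (Fin m) F} {X : Matrix (Fin m) (Fin m) F} :
    upE a b R X ∈ OM m a b ↔ UOK a b R X := by
  rw [mem_OM]
  refine ⟨fun h y => ?_, fun h x y z => ?_⟩
  · have := h 0 y 0
    rw [upE_val, upMat_mulVec, qM_vm] at this
    simp [qm_zero] at this
    rw [dotProduct_comm y]
    linear_combination this
  · rw [upE_val, upMat_mulVec, qM_vm, qm_add]
    have h' := h y
    rw [dotProduct_comm y] at h'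
    rw [sub_dotProduct, add_dotProduct, mulVec_transpose, ← dotProduct_mulVec,
      dotProduct_comm (Bm a b *ᵥ z), bm_comm z, dotProduct_comm (R *ᵥ y)]
    linear_combination h'

lemma lev_conj_up (M : GL (Fin m) F) (R : Matrix (Fin 2) (Fin m) F)
    (X : Matrix (Fin m) (Fin m) F) :
    levM F m M * upE a b R X * (levM F m M)⁻¹ = upE a b (R * M.1ᵀ) (M.1 * X * M.1ᵀ) := by
  rw [← map_inv]
  refine glM fun x y z => ?_
  rw [Units.val_mul, Units.val_mul, ← mulVec_mulVec, ← mulVec_mulVec, levM_mulVec, upE_val,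
    upMat_mulVec, levM_mulVec, upE_val, upMat_mulVec, map_inv, ti_inv_val, vm_inj]
  refine ⟨?_, ?_, ?_⟩
  · simp only [mulVec_add, mulVec_sub, transpose_mul, transpose_transpose, ← mulVec_mulVec]
    rw [mulVec_mulVec x, Units.mul_inv, one_mulVec]
  · rw [mulVec_mulVec, ti_val, ← transpose_mul, Units.mul_inv, transpose_one, one_mulVec]
  · rw [← mulVec_mulVec]

variable (a b) in
/-- isometries of the middle form -/
def OMid : Subgroup (GL (Fin 2) F) where
  carrier := {h | ∀ z, qm a b (h.1 *ᵥ z) = qm a b z}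
  one_mem' := fun z => by simp
  mul_mem' := fun {g h} hg hh z => by rw [Units.val_mul, ← mulVec_mulVec, hg, hh]
  inv_mem' := fun {g} hg z => by
    rw [← hg, mulVec_mulVec, ← Units.val_mul, mul_inv_cancel, Units.val_one, one_mulVec]

lemma midM_mem {h : GL (Fin 2) F} : midM F m h ∈ OM m a b ↔ h ∈ OMid a b := by
  rw [mem_OM]
  refine ⟨fun H z => ?_, fun H x y z => ?_⟩
  · have := H 0 0 z
    rw [midM_mulVec, qM_vm] at this
    simpa using this
  · rw [midM_mulVec, qM_vm, H]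

lemma OMid.bm {h : GL (Fin 2) F} (hh : h ∈ OMid a b) (z z' : Fin 2 → F) :
    (h.1 *ᵥ z) ⬝ᵥ (Bm a b *ᵥ (h.1 *ᵥ z')) = z ⬝ᵥ (Bm a b *ᵥ z') := by
  have e := qm_add (a := a) (b := b) (h.1 *ᵥ z) (h.1 *ᵥ z')
  rw [← mulVec_add, hh, hh, hh, qm_add] at e
  linear_combination -e

lemma mid_conj_up {h : GL (Fin 2) F} (hh : h ∈ OMid a b) (R : Matrix (Fin 2) (Fin m) F)
    (X : Matrix (Fin m) (Fin m) F) :
    midM F m h * upE a b R X * (midM F m h)⁻¹ = upE a b (h.1 * R) X := by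
  rw [← map_inv]
  refine glM fun x y z => ?_
  rw [Units.val_mul, Units.val_mul, ← mulVec_mulVec, ← mulVec_mulVec, midM_mulVec, upE_val,
    upMat_mulVec, midM_mulVec, upE_val, upMat_mulVec, vm_inj]
  refine ⟨?_, rfl, ?_⟩
  · have e : h.1ᵀ *ᵥ (Bm a b *ᵥ z) = Bm a b *ᵥ ((h⁻¹).1 *ᵥ z) := by
      refine sub_eq_zero.1 (bilin_eq_zero fun v => ?_)
      have h1 := OMid.bm hh v ((h⁻¹).1 *ᵥ z)
      rw [mulVec_mulVec z h.1, Units.mul_inv, one_mulVec] at h1
      rw [sub_dotProduct, mulVec_transpose, ← dotProduct_mulVec, dotProduct_comm (Bm a b *ᵥ z),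
        h1, dotProduct_comm v, sub_self]
    rw [transpose_mul, ← mulVec_mulVec, e]
  · rw [mulVec_add, mulVec_mulVec, Units.mul_inv, one_mulVec, mulVec_mulVec]

lemma levM_mem (M : GL (Fin m) F) : levM F m M ∈ OM m a b := by
  refine mem_OM.2 fun x y z => ?_
  rw [levM_mulVec, qM_vm, ti_val, mulVec_transpose, dotProduct_comm, ← dotProduct_mulVec,
    mulVec_mulVec, Units.inv_mul, one_mulVec, dotProduct_comm]

lemma flp_mem : flp F m ∈ OM m a b := by
  refine mem_OM.2 fun x y z => ?_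
  rw [flp_mulVec, qM_vm, dotProduct_comm]

variable (a b) in
/-- lower unipotent element -/
def loE (R : Matrix (Fin 2) (Fin m) F) (X : Matrix (Fin m) (Fin m) F) : GL (Ix m) F :=
  flp F m * upE a b R X * (flp F m)⁻¹

lemma loE_mulVec (R : Matrix (Fin 2) (Fin m) F) (X : Matrix (Fin m) (Fin m) F) (x y : Fin m → F)
    (z : Fin 2 → F) :
    (loE a b R X).1 *ᵥ vm x y z = vm x (y + X *ᵥ x - Rᵀ *ᵥ (Bm a b *ᵥ z)) (z + R *ᵥ x) := by
  rw [loE, flp_inv, Units.val_mul, Units.val_mul, ← mulVec_mulVec, ← mulVec_mulVec, flp_mulVec,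
    upE_val, upMat_mulVec, flp_mulVec]

lemma loE_mem {R : Matrix (Fin 2) (Fin m) F} {X : Matrix (Fin m) (Fin m) F} (h : UOK a b R X) :
    loE a b R X ∈ OM m a b :=
  mul_mem (mul_mem flp_mem (upE_mem.2 h)) (inv_mem flp_mem)

variable (m a b) in
/-- the upper unipotent subgroup -/
def UpS : Subgroup (GL (Ix m) F) where
  carrier := {g | ∃ R X, UOK a b R X ∧ g = upE a b R X}
  one_mem' := ⟨0, 0, fun y => by simp [qm_zero], upE_zero.symm⟩
  mul_mem' := by
    rintro _ _ ⟨R, X, h, rfl⟩ ⟨R', X', h', rfl⟩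
    exact ⟨_, _, upE_mem.1 (upE_mul R R' X X' ▸ mul_mem (upE_mem.2 h) (upE_mem.2 h')),
      upE_mul R R' X X'⟩
  inv_mem' := by
    rintro _ ⟨R, X, h, rfl⟩
    exact ⟨_, _, upE_mem.1 (upE_inv R X ▸ inv_mem (upE_mem.2 h)), upE_inv R X⟩

variable (m a b) in
/-- the lower unipotent subgroup -/
def LoS : Subgroup (GL (Ix m) F) := (UpS m a b).map (MulAut.conj (flp F m)).toMonoidHom

lemma mem_LoS {g : GL (Ix m) F} :
    g ∈ LoS m a b ↔ ∃ R X, UOK a b R X ∧ g = loE a b R X := by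
  constructor
  · rintro ⟨_, ⟨R, X, h, rfl⟩, rfl⟩; exact ⟨R, X, h, rfl⟩
  · rintro ⟨R, X, h, rfl⟩; exact ⟨_, ⟨R, X, h, rfl⟩, rfl⟩

lemma LoS_conj {g : GL (Ix m) F} :
    g ∈ LoS m a b ↔ flp F m * g * (flp F m)⁻¹ ∈ UpS m a b := by
  constructor
  · rintro ⟨u, hu, rfl⟩
    have : flp F m * (flp F m * u * (flp F m)⁻¹) * (flp F m)⁻¹ = u := by
      rw [flp_inv]; simp only [mul_assoc, flp_sq, mul_one]; simp [← mul_assoc, flp_sq]
    exact this.symm ▸ hu
  · intro h
    refine ⟨_, h, ?_⟩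
    show flp F m * (flp F m * g * (flp F m)⁻¹) * (flp F m)⁻¹ = g
    rw [flp_inv]; simp only [mul_assoc, flp_sq, mul_one]; simp [← mul_assoc, flp_sq]

lemma UpS_le : UpS m a b ≤ OM m a b := by
  rintro _ ⟨R, X, h, rfl⟩; exact upE_mem.2 h

lemma LoS_le : LoS m a b ≤ OM m a b := by
  intro g hg
  obtain ⟨R, X, h, rfl⟩ := mem_LoS.1 hg
  exact loE_mem h

lemma lev_norm_up (M : GL (Fin m) F) {r : GL (Ix m) F} (hr : r ∈ UpS m a b) :
    levM F m M * r * (levM F m M)⁻¹ ∈ UpS m a b := by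
  obtain ⟨R, X, h, rfl⟩ := hr
  refine ⟨_, _, upE_mem.1 ?_, lev_conj_up M R X⟩
  rw [← lev_conj_up]
  exact mul_mem (mul_mem (levM_mem M) (upE_mem.2 h)) (inv_mem (levM_mem M))

lemma lev_norm_lo (M : GL (Fin m) F) {r : GL (Ix m) F} (hr : r ∈ LoS m a b) :
    levM F m M * r * (levM F m M)⁻¹ ∈ LoS m a b := by
  rw [LoS_conj] at hr ⊢
  rw [show flp F m * (levM F m M * r * (levM F m M)⁻¹) * (flp F m)⁻¹ =
    (flp F m * levM F m M * (flp F m)⁻¹) * (flp F m * r * (flp F m)⁻¹) *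
      (flp F m * levM F m M * (flp F m)⁻¹)⁻¹ by group, flp_conj_lev]
  exact lev_norm_up _ hr

lemma mid_norm_lo {h : GL (Fin 2) F} (hh : h ∈ OMid a b) {r : GL (Ix m) F}
    (hr : r ∈ LoS m a b) : midM F m h * r * (midM F m h)⁻¹ ∈ LoS m a b := by
  rw [LoS_conj] at hr ⊢
  rw [show flp F m * (midM F m h * r * (midM F m h)⁻¹) * (flp F m)⁻¹ =
    (flp F m * midM F m h * (flp F m)⁻¹) * (flp F m * r * (flp F m)⁻¹) *
      (flp F m * midM F m h * (flp F m)⁻¹)⁻¹ by group, flp_conj_mid]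
  obtain ⟨R, X, h0, e⟩ := hr
  rw [e, mid_conj_up hh]
  refine ⟨_, _, upE_mem.1 ?_, rfl⟩
  rw [← mid_conj_up hh]
  exact mul_mem (mul_mem (midM_mem.2 hh) (upE_mem.2 h0)) (inv_mem (midM_mem.2 hh))

end Unipotent

section Blocks

/-- the corner -/
def crA (g : GL (Ix m) F) : Matrix (Fin m) (Fin m) F :=
  Matrix.of fun i j => g.1 (Sum.inl (Sum.inl i)) (Sum.inl (Sum.inl j))

/-- the lower corner -/
def crC (g : GL (Ix m) F) : Matrix (Fin m) (Fin m) F :=
  Matrix.of fun i j => g.1 (Sum.inl (Sum.inr i)) (Sum.inl (Sum.inl j))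

/-- the middle rows on the first isotropic space -/
def crE (g : GL (Ix m) F) : Matrix (Fin 2) (Fin m) F :=
  Matrix.of fun i j => g.1 (Sum.inr i) (Sum.inl (Sum.inl j))

lemma mulVec_vx (g : GL (Ix m) F) (x : Fin m → F) :
    g.1 *ᵥ vm x 0 0 = vm (crA g *ᵥ x) (crC g *ᵥ x) (crE g *ᵥ x) := by
  funext s
  rcases s with (s | s) | s <;>
    simp [vm, crA, crC, crE, Matrix.mulVec, dotProduct, Fintype.sum_sum_type]

lemma crA_eq {g : GL (Ix m) F} {M : Matrix (Fin m) (Fin m) F}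
    (h : ∀ x, (fun i => (g.1 *ᵥ vm x 0 0) (Sum.inl (Sum.inl i))) = M *ᵥ x) : crA g = M :=
  Matrix.ext_iff_mulVec.2 fun x => by
    rw [← h x]; funext i; rw [mulVec_vx]; rfl

lemma quad_vx {g : GL (Ix m) F} (hg : g ∈ OM m a b) (x : Fin m → F) :
    (crA g *ᵥ x) ⬝ᵥ (crC g *ᵥ x) + qm a b (crE g *ᵥ x) = 0 := by
  rw [← qM_vm, ← mulVec_vx, mem_OM.1 hg]
  simp [qm_zero]

lemma crE_ker {g : GL (Ix m) F} (hab : Aniso a b) (hg : g ∈ OM m a b) {x : Fin m → F}
    (hx : crC g *ᵥ x = 0) : crE g *ᵥ x = 0 := by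
  have h := quad_vx hg x
  rw [hx, dotProduct_zero, zero_add] at h
  exact hab _ h

/-- an isometry fixing the first isotropic space -/
theorem fix_vx_form {u : GL (Ix m) F} (hu : u ∈ OM m a b)
    (h : ∀ x, u.1 *ᵥ vm x 0 0 = vm x 0 0) :
    ∃ (k : GL (Fin 2) F) (R : Matrix (Fin 2) (Fin m) F) (X : Matrix (Fin m) (Fin m) F),
      k ∈ OMid a b ∧ UOK a b R X ∧ u = midM F m k * upE a b R X := by
  classical
  let K : Matrix (Fin 2) (Fin 2) F := Matrix.of fun i j => u.1 (Sum.inr i) (Sum.inr j)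
  let P : Matrix (Fin m) (Fin 2) F :=
    Matrix.of fun i j => u.1 (Sum.inl (Sum.inl i)) (Sum.inr j)
  let X : Matrix (Fin m) (Fin m) F :=
    Matrix.of fun i j => u.1 (Sum.inl (Sum.inl i)) (Sum.inl (Sum.inr j))
  let S : Matrix (Fin 2) (Fin m) F :=
    Matrix.of fun i j => u.1 (Sum.inr i) (Sum.inl (Sum.inr j))
  have hy : ∀ x y z (i : Fin m), (u.1 *ᵥ vm x y z) (Sum.inl (Sum.inr i)) = y i := by
    intro x y z i
    have := polar_map hu (vm (Pi.single i 1) 0 0) (vm x y z)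
    rw [h, vm_eta (u.1 *ᵥ vm x y z), polar_vm, polar_vm] at this
    simpa using this
  have e0 : ∀ y z, u.1 *ᵥ vm 0 y z = vm (X *ᵥ y + P *ᵥ z) y (K *ᵥ z + S *ᵥ y) := by
    intro y z
    funext s
    rcases s with (s | s) | s
    · simp [vm, X, P, Matrix.mulVec, dotProduct, Fintype.sum_sum_type]
    · exact hy 0 y z s
    · show (u.1 *ᵥ vm 0 y z) (Sum.inr s) = (K *ᵥ z) s + (S *ᵥ y) s
      simp [vm, K, S, Matrix.mulVec, dotProduct, Fintype.sum_sum_type]; ring
  have eu : ∀ x y z, u.1 *ᵥ vm x y z = vm (x + X *ᵥ y + P *ᵥ z) y (K *ᵥ z + S *ᵥ y) := by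
    intro x y z
    rw [show vm x y z = vm x 0 0 + vm 0 y z by rw [vm_add, vm_inj]; simp, mulVec_add, h, e0,
      vm_add, vm_inj]
    refine ⟨by abel, by simp, by simp⟩
  have hK : ∀ z, qm a b (K *ᵥ z) = qm a b z := fun z => by
    have := mem_OM.1 hu 0 0 z
    rw [eu, qM_vm] at this
    simpa using this
  have hKi : IsUnit K.det := by
    rw [isUnit_iff_ne_zero]
    intro h0
    obtain ⟨z, hz0, hz⟩ := exists_mulVec_eq_zero_iff.2 h0
    have e1 : u.1 *ᵥ vm 0 0 z = u.1 *ᵥ vm (P *ᵥ z) 0 0 := by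
      rw [eu, eu, hz]; simp
    exact hz0 (vm_inj.1 (mulVec_injM u e1)).2.2
  let k : GL (Fin 2) F := Matrix.GeneralLinearGroup.mkOfDetNeZero K hKi.ne_zero
  have hk : k ∈ OMid a b := hK
  have ek : ∀ z, (k⁻¹).1 *ᵥ (K *ᵥ z) = z := fun z => by
    rw [mulVec_mulVec, show K = k.1 from rfl, Units.inv_mul, one_mulVec]
  set w := (midM F m k)⁻¹ * u with hw
  have hwm : w ∈ OM m a b := mul_mem (inv_mem (midM_mem.2 hk)) hu
  have ew : ∀ x y z, w.1 *ᵥ vm x y z =
      vm (x + X *ᵥ y + P *ᵥ z) y (z + ((k⁻¹).1 * S) *ᵥ y) := by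
    intro x y z
    rw [hw, ← map_inv, Units.val_mul, ← mulVec_mulVec, eu, midM_mulVec, mulVec_add, ek,
      ← mulVec_mulVec]
  set R := (k⁻¹).1 * S
  have hP : ∀ z, P *ᵥ z = -(Rᵀ *ᵥ (Bm a b *ᵥ z)) := by
    intro z
    refine eq_neg_of_add_eq_zero_left (bilin_eq_zero fun y => ?_)
    have h1 := mem_OM.1 hwm 0 y z
    have h2 := mem_OM.1 hwm 0 y 0
    rw [ew, qM_vm] at h1 h2
    simp only [zero_add, mulVec_zero, add_zero, zero_dotProduct, qm_zero, add_dotProduct,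
      qm_add] at h1 h2
    rw [add_dotProduct, mulVec_transpose, ← dotProduct_mulVec, dotProduct_comm (Bm a b *ᵥ z),
      bm_comm]
    linear_combination h1 - h2
  have ewu : w = upE a b R X := glM fun x y z => by
    rw [ew, upE_val, upMat_mulVec, hP, sub_eq_add_neg]
  refine ⟨k, R, X, hk, upE_mem.1 (ewu ▸ hwm), ?_⟩
  rw [← ewu, hw]; group

/-- decomposition with invertible corner -/
theorem ldu {g : GL (Ix m) F} (hg : g ∈ OM m a b) {M : GL (Fin m) F} (hM : M.1 = crA g) :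
    UOK a b (crE g * (M⁻¹).1) (crC g * (M⁻¹).1) ∧
    ∃ (k : GL (Fin 2) F) (R : Matrix (Fin 2) (Fin m) F) (X : Matrix (Fin m) (Fin m) F),
      k ∈ OMid a b ∧ UOK a b R X ∧
      g = loE a b (crE g * (M⁻¹).1) (crC g * (M⁻¹).1) * levM F m M * midM F m k * upE a b R X := by
  set S := crE g * (M⁻¹).1
  set T := crC g * (M⁻¹).1
  have hS : ∀ x, S *ᵥ (crA g *ᵥ x) = crE g *ᵥ x := fun x => by
    rw [← hM, mulVec_mulVec, Matrix.mul_assoc, Units.inv_mul, Matrix.mul_one]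
  have hT : ∀ x, T *ᵥ (crA g *ᵥ x) = crC g *ᵥ x := fun x => by
    rw [← hM, mulVec_mulVec, Matrix.mul_assoc, Units.inv_mul, Matrix.mul_one]
  have hok : UOK a b S T := fun y => by
    have hy : y = crA g *ᵥ ((M⁻¹).1 *ᵥ y) := by
      rw [← hM, mulVec_mulVec, Units.mul_inv, one_mulVec]
    have := quad_vx hg ((M⁻¹).1 *ᵥ y)
    rw [← hS, ← hT, ← hy] at this
    linear_combination this
  refine ⟨hok, ?_⟩
  set u := (levM F m M)⁻¹ * ((loE a b S T)⁻¹ * g) with hudef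
  have hu : u ∈ OM m a b :=
    mul_mem (inv_mem (levM_mem M)) (mul_mem (inv_mem (loE_mem hok)) hg)
  have hfix : ∀ x, u.1 *ᵥ vm x 0 0 = vm x 0 0 := by
    intro x
    refine mulVec_injM (loE a b S T * levM F m M) ?_
    rw [mulVec_mulVec, ← Units.val_mul, show loE a b S T * levM F m M * u = g by rw [hudef]; group,
      mulVec_vx, Units.val_mul, ← mulVec_mulVec, levM_mulVec, loE_mulVec, hM, hS, hT]
    simp
  obtain ⟨k, R, X, hk, hR, e⟩ := fix_vx_form hu hfix
  refine ⟨k, R, X, hk, hR, ?_⟩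
  rw [mul_assoc (_ * _) (midM F m k), ← e, hudef]; group

/-- a standard completion of a row block -/
theorem uok_gram (R : Matrix (Fin 2) (Fin m) F) : UOK a b R (-(Rᵀ * Gm a b * R)) := fun y => by
  rw [qm, neg_mulVec, dotProduct_neg, ← mulVec_mulVec, ← mulVec_mulVec, mulVec_transpose,
    dotProduct_comm y, ← dotProduct_mulVec, dotProduct_comm (Gm a b *ᵥ (R *ᵥ y)), add_neg_cancel]

theorem uok_alt {X : Matrix (Fin m) (Fin m) F} (h : IsA false X) :
    UOK a b (0 : Matrix (Fin 2) (Fin m) F) X := fun y => by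
  rw [zero_mulVec, qm_zero, zero_add, h.dot_self]

theorem isA_of_uok {R : Matrix (Fin 2) (Fin m) F} {X Y : Matrix (Fin m) (Fin m) F}
    (h : UOK a b R X) (h' : UOK a b R Y) : IsA false (X - Y) := by
  obtain ⟨d, t⟩ := alt_of_quad (X := X - Y) fun y => by
    rw [sub_mulVec, dotProduct_sub]
    linear_combination h y - h' y
  exact ⟨t, fun _ => d⟩

theorem isA_sub_transpose (S : Matrix (Fin m) (Fin m) F) : IsA false (S - Sᵀ) := by
  refine ⟨?_, fun _ i => by simp⟩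
  rw [transpose_sub, transpose_transpose]; simp

theorem exists_sub_transpose {X : Matrix (Fin m) (Fin m) F} (h : IsA false X) :
    ∃ S : Matrix (Fin m) (Fin m) F, X = S - Sᵀ := by
  refine ⟨Matrix.of fun i j => if i < j then X i j else 0, ?_⟩
  ext i j
  rw [Matrix.sub_apply, transpose_apply, of_apply, of_apply]
  have ht : X j i = -X i j := by simpa using congrFun (congrFun h.1 i) j
  rcases lt_trichotomy i j with hij | rfl | hij
  · rw [if_pos hij, if_neg (asymm hij), sub_zero]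
  · simp [h.2 rfl i]
  · rw [if_neg (asymm hij), if_pos hij, ht, zero_sub, neg_neg]

end Blocks

end CfsgLib.KnownB.OreOmegaMinus
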