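import Cfsg.Agent.Lib.KnownB.OreOmegaMinus.Frame

/-!
Spinor norm and Dickson invariant on Levi, middle and unipotent elements of the minus form.
-/

set_option autoImplicit false
set_option linter.unusedSectionVars false

namespace CfsgLib.KnownB.OreOmegaMinus

open Matrix QuadraticMap CfsgLib.Geometry CfsgLib.Thompson CfsgLib.KnownB.Sourour

variable {F : Type*} [Field F] {m : ℕ} {a b : F}

/-- the minus form is a good form over every field -/
theorem good_minus [Finite F] (hm : 3 ≤ m)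
    (hab : ∀ z₁ z₂ : F, z₁ ^ 2 + a * z₁ * z₂ + b * z₂ ^ 2 = 0 → z₁ = 0 ∧ z₂ = 0) :
    GoodForm (qM m a b) := by
  have hnd : (polarBilin (qM m a b)).Nondegenerate := nondegenerate_matQuad (by
    rw [det_minus_gram]
    exact mul_ne_zero (pow_ne_zero _ (neg_ne_zero.2 one_ne_zero)) (binAniso_discr hab).1)
  refine ⟨hnd, reflGroup_eq_orth hnd (Or.inl ?_)⟩
  rw [Module.finrank_fintype_fun_eq_card, Fintype.card_sum, Fintype.card_sum, Fintype.card_fin,
    Fintype.card_fin]
  omega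

variable (m a b) in
/-- Levi elements as isometries -/
noncomputable def levO' : GL (Fin m) F →* OM m a b := (levM F m).codRestrict _ levM_mem

variable (m a b) in
/-- middle elements as isometries -/
noncomputable def midO : OMid a b →* OM m a b :=
  ((midM F m).comp (OMid a b).subtype).codRestrict _ fun h => midM_mem.2 h.2

/-- a reflection of the middle plane -/
theorem exists_mid_refl {v : Fin 2 → F} (hv : qm a b v ≠ 0) :
    ∃ k : OMid a b, ∀ z, k.1.1 *ᵥ z = z - ((qm a b v)⁻¹ * (v ⬝ᵥ (Bm a b *ᵥ z))) • v := by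
  set c := (qm a b v)⁻¹
  set K : Matrix (Fin 2) (Fin 2) F := 1 - c • vecMulVec v (Bm a b *ᵥ v)
  have hK : ∀ z, K *ᵥ z = z - (c * (v ⬝ᵥ (Bm a b *ᵥ z))) • v := fun z => by
    simp only [K, sub_mulVec, one_mulVec, smul_mulVec, vecMulVec_mulVec, op_smul_eq_smul, smul_smul]
    rw [bm_comm v z, dotProduct_comm (Bm a b *ᵥ v) z]
  have hc : c * qm a b v = 1 := inv_mul_cancel₀ hv
  have hKK : K * K = 1 := Matrix.ext_iff_mulVec.2 fun z => by
    rw [← mulVec_mulVec, hK, hK, one_mulVec, mulVec_sub, mulVec_smul, dotProduct_sub,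
      dotProduct_smul, smul_eq_mul, bm_self, sub_sub, ← add_smul]
    rw [show c * (v ⬝ᵥ (Bm a b *ᵥ z)) + c * (v ⬝ᵥ (Bm a b *ᵥ z) -
      c * (v ⬝ᵥ (Bm a b *ᵥ z)) * (2 * qm a b v)) = 0 by
        linear_combination (-2 * c * (v ⬝ᵥ (Bm a b *ᵥ z))) * hc, zero_smul, sub_zero]
  refine ⟨⟨⟨K, K, hKK, hKK⟩, fun z => ?_⟩, hK⟩
  show qm a b (K *ᵥ z) = qm a b z
  rw [hK, sub_eq_add_neg, ← neg_smul, qm_add, qm_smul, mulVec_smul, dotProduct_smul, smul_eq_mul,
    bm_comm z v]
  linear_combination (c * (v ⬝ᵥ (Bm a b *ᵥ z)) ^ 2) * hc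

variable [Fintype F] (hF : GoodForm (qM m a b))

include hF in
/-- invariant of a middle reflection -/
theorem invt_mid_refl {v : Fin 2 → F} (hv : qm a b v ≠ 0) {k : OMid a b}
    (hk : ∀ z, k.1.1 *ᵥ z = z - ((qm a b v)⁻¹ * (v ⬝ᵥ (Bm a b *ᵥ z))) • v) :
    hF.invt (midO m a b k) = (sqMk hv, Multiplicative.ofAdd 1) := by
  have hQ : qM m a b (vm 0 0 v) = qm a b v := by rw [qM_vm]; simp
  obtain ⟨s, hs, hsv⟩ := hF.exists_refl (a := vm 0 0 v) (by rw [hQ]; exact hv)
  have e : sqMk (by rw [hQ]; exact hv : qM m a b (vm 0 0 v) ≠ 0) = sqMk hv := by simp only [hQ]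
  rw [← e, ← hs]
  refine hF.invt_eq_of _ _ (extM fun x y z => ?_)
  show (midM F m k.1).1 *ᵥ vm x y z = _
  rw [hsv, midM_mulVec, hk, hQ, polar_vm, vm_smul, sub_eq_add_neg (vm x y z), ← neg_one_smul F,
    vm_smul, vm_add, vm_inj, bm_comm z v]
  exact ⟨by simp, by simp, by simp [sub_eq_add_neg]⟩

include hF in
/-- the middle group consists of the identity, reflections and products of two of them -/
theorem mid_cases (hA : Aniso a b) (h : OMid a b) :
    h = 1 ∨ (∃ u, ∃ (hu : qm a b u ≠ 0), ∀ z, h.1.1 *ᵥ z =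
        z - ((qm a b u)⁻¹ * (u ⬝ᵥ (Bm a b *ᵥ z))) • u) ∨
      (hF.invt (midO m a b h)).2 = 1 := by
  classical
  set e0 : Fin 2 → F := Pi.single 0 1
  set e1 : Fin 2 → F := Pi.single 1 1
  have hq0 : qm a b e0 = 1 := by rw [qm_apply]; simp [e0]
  have hfix : ∀ g : OMid a b, g.1.1 *ᵥ e0 = e0 → g = 1 ∨ ∃ u, ∃ (hu : qm a b u ≠ 0),
      ∀ z, g.1.1 *ᵥ z = z - ((qm a b u)⁻¹ * (u ⬝ᵥ (Bm a b *ᵥ z))) • u := by
    intro g hg
    set d := g.1.1 *ᵥ e1 - e1 with hd
    have hz : ∀ z : Fin 2 → F, g.1.1 *ᵥ z = z + z 1 • d := fun z => by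
      have e : z = z 0 • e0 + z 1 • e1 := by funext i; fin_cases i <;> simp [e0, e1]
      conv_lhs => rw [e]
      rw [mulVec_add, mulVec_smul, mulVec_smul, hg, hd, smul_sub]
      conv_rhs => rw [e]
      simp [e0, e1]
    by_cases hd0 : d = 0
    · left
      refine Subtype.ext (Units.ext (Matrix.ext_iff_mulVec.2 fun z => ?_))
      rw [hz, hd0, smul_zero, add_zero]
      simp
    right
    have hqd : qm a b d ≠ 0 := fun h => hd0 (hA d h)
    have h1 : qm a b (e1 + d) = qm a b e1 := by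
      rw [← g.2 e1, hd]; congr 1; abel
    rw [qm_add] at h1
    have h0 : e0 ⬝ᵥ (Bm a b *ᵥ d) = 0 := by
      have := OMid.bm g.2 e0 e1
      rw [hg, show g.1.1 *ᵥ e1 = e1 + d by rw [hd]; abel, mulVec_add, dotProduct_add] at this
      linear_combination this
    refine ⟨d, hqd, fun z => ?_⟩
    have e : z = z 0 • e0 + z 1 • e1 := by funext i; fin_cases i <;> simp [e0, e1]
    have hb : d ⬝ᵥ (Bm a b *ᵥ z) = -(z 1 * qm a b d) := by
      rw [bm_comm]
      conv_lhs => arg 1; rw [e]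
      rw [add_dotProduct, smul_dotProduct, smul_dotProduct, smul_eq_mul, smul_eq_mul, h0]
      linear_combination (z 1) * h1
    rw [hz, hb, mul_neg, ← mul_assoc, mul_comm _ (z 1), mul_assoc, inv_mul_cancel₀ hqd, mul_one,
      neg_smul, sub_neg_eq_add]
  by_cases h0 : h.1.1 *ᵥ e0 = e0
  · exact (hfix h h0).imp id Or.inl
  set d := e0 - h.1.1 *ᵥ e0 with hd
  have hd0 : d ≠ 0 := fun hh => h0 (sub_eq_zero.1 hh).symm
  have hqd : qm a b d ≠ 0 := fun hh => hd0 (hA d hh)
  obtain ⟨s, hs⟩ := exists_mid_refl hqd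
  have hsh : (s * h).1.1 *ᵥ e0 = e0 := by
    show (s.1.1 * h.1.1) *ᵥ e0 = e0
    rw [← mulVec_mulVec, hs]
    have e2 := qm_add (a := a) (b := b) d (h.1.1 *ᵥ e0)
    rw [show d + h.1.1 *ᵥ e0 = e0 by rw [hd]; abel, h.2] at e2
    rw [show d ⬝ᵥ (Bm a b *ᵥ (h.1.1 *ᵥ e0)) = -qm a b d by linear_combination -e2, mul_neg,
      inv_mul_cancel₀ hqd, neg_smul, one_smul, sub_neg_eq_add]
    rw [hd]; abel
  have hsi := invt_mid_refl hF hqd hs
  rcases hfix _ hsh with hone | ⟨u, hu, hu'⟩
  · refine Or.inr (Or.inl ⟨d, hqd, fun z => ?_⟩)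
    have e : h = s := by
      have h2 : s * s = 1 := Subtype.ext (Units.ext (Matrix.ext_iff_mulVec.2 fun z => by
        show (s.1.1 * s.1.1) *ᵥ z = (1 : Matrix (Fin 2) (Fin 2) F) *ᵥ z
        rw [← mulVec_mulVec, hs, hs, one_mulVec, mulVec_sub, mulVec_smul, dotProduct_sub,
          dotProduct_smul, smul_eq_mul, bm_self, sub_sub, ← add_smul]
        rw [show (qm a b d)⁻¹ * (d ⬝ᵥ (Bm a b *ᵥ z)) + (qm a b d)⁻¹ * (d ⬝ᵥ (Bm a b *ᵥ z) -
          (qm a b d)⁻¹ * (d ⬝ᵥ (Bm a b *ᵥ z)) * (2 * qm a b d)) = 0 by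
            linear_combination (-2 * (qm a b d)⁻¹ * (d ⬝ᵥ (Bm a b *ᵥ z))) * inv_mul_cancel₀ hqd,
          zero_smul, sub_zero]))
      exact mul_left_cancel (hone.trans h2.symm)
    rw [e]; exact hs z
  · refine Or.inr (Or.inr ?_)
    have hi := invt_mid_refl hF hu hu'
    rw [map_mul, map_mul, hsi] at hi
    have h2 := congrArg Prod.snd hi
    rw [Prod.snd_mul] at h2
    exact mul_left_cancel (h2.trans (mul_one _).symm)

include hF in
/-- a middle element times two reflections, the second one prescribed up to scaling, is trivial -/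
theorem exists_kill (hA : Aniso a b) {z : Fin 2 → F} (hz : z ≠ 0) (h : OMid a b) {d : F} (hd : d ≠ 0)
    (hh : hF.invt (midO m a b h) = (sqMk hd, 1)) :
    ∃ w, ∃ (hw : qm a b w ≠ 0) (s t : OMid a b), qm a b w * d = qm a b z ∧
      (∀ v, s.1.1 *ᵥ v = v - ((qm a b z)⁻¹ * (z ⬝ᵥ (Bm a b *ᵥ v))) • z) ∧
      (∀ v, t.1.1 *ᵥ v = v - ((qm a b w)⁻¹ * (w ⬝ᵥ (Bm a b *ᵥ v))) • w) ∧ h * (s * t) = 1 := by
  have hqz : qm a b z ≠ 0 := fun h => hz (hA z h)
  obtain ⟨s, hs⟩ := exists_mid_refl hqz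
  have hsi := invt_mid_refl hF hqz hs
  have hr : hF.invt (midO m a b (h * s)⁻¹) =
      ((sqMk hd * sqMk hqz)⁻¹, (Multiplicative.ofAdd 1 : Multiplicative (ZMod 2))⁻¹) := by
    rw [map_inv, map_inv, map_mul, map_mul, hh, hsi]
    simp
  rcases mid_cases hF hA (h * s)⁻¹ with h1 | ⟨u, hu, hu'⟩ | h2
  · exfalso
    rw [h1, map_one, map_one] at hr
    exact (by decide : (Multiplicative.ofAdd (1 : ZMod 2))⁻¹ ≠ 1) (congrArg Prod.snd hr).symm
  · have hi := invt_mid_refl hF hu hu'
    rw [hr] at hi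
    have h3 : sqMk (mul_ne_zero (mul_ne_zero hd hqz) hu) = 1 := by
      have e := congrArg Prod.fst hi
      have e2 : sqMk hu = (sqMk hd * sqMk hqz)⁻¹ := e.symm
      rw [sqMk_mul (mul_ne_zero hd hqz) hu, sqMk_mul hd hqz, e2, mul_inv_cancel]
    obtain ⟨σ, hσ⟩ := (sqMk_eq_one_iff _).1 h3
    have hσ0 : σ ≠ 0 := fun h => mul_ne_zero (mul_ne_zero hd hqz) hu (by rw [hσ, h, mul_zero])
    have hc : σ / (d * qm a b u) ≠ 0 := div_ne_zero hσ0 (mul_ne_zero hd hu)
    have hw : qm a b ((σ / (d * qm a b u)) • u) ≠ 0 := by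
      rw [qm_smul]; exact mul_ne_zero (mul_ne_zero hc hc) hu
    refine ⟨_, hw, s, (h * s)⁻¹, ?_, hs, fun v => ?_, by group⟩
    · rw [qm_smul]
      field_simp
      linear_combination -hσ
    · rw [hu', smul_dotProduct, smul_eq_mul, qm_smul, smul_smul]
      congr 2
      generalize σ / (d * qm a b u) = c at hc
      field_simp
  · exfalso
    rw [hr] at h2
    exact (by decide : (Multiplicative.ofAdd (1 : ZMod 2))⁻¹ ≠ 1) h2

include hF in
theorem invt_lev_sl (hm : 3 ≤ m) {M : GL (Fin m) F} (hM : M.1.det = 1) :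
    hF.invt (levO' m a b M) = 1 := by
  obtain ⟨x, y, e⟩ := commutator_all (F := F) (by omega : 2 ≤ m) (fun h => by omega)
    (⟨M.1, hM⟩ : Matrix.SpecialLinearGroup (Fin m) F)
  have e' : M = Matrix.SpecialLinearGroup.toGL x * Matrix.SpecialLinearGroup.toGL y *
      (Matrix.SpecialLinearGroup.toGL x)⁻¹ * (Matrix.SpecialLinearGroup.toGL y)⁻¹ := by
    rw [← map_inv, ← map_inv, ← map_mul, ← map_mul, ← map_mul, ← e]
    exact Units.ext rfl
  rw [e']
  simp only [map_mul (levO' m a b), map_inv (levO' m a b)]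
  exact hF.invt_commutator _ _

include hF in
/-- invariant of a Levi element -/
theorem invt_levO (hm : 3 ≤ m) (M : GL (Fin m) F) {d : F} (hd : d ≠ 0) (e : M.1.det = d) :
    hF.invt (levO' m a b M) = (sqMk hd, 1) := by
  set j : Fin m := ⟨0, by omega⟩
  have hdet : (diagonal (Function.update (1 : Fin m → F) j d)).det = d := by
    rw [det_diagonal, Finset.prod_update_of_mem (Finset.mem_univ _)]; simp
  set D := Matrix.GeneralLinearGroup.mkOfDetNeZero _ (hdet.trans_ne hd) with hDdef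
  have hD : D.1 = diagonal (Function.update (1 : Fin m → F) j d) := rfl
  have h1 : (M * D⁻¹).1.det = 1 := by
    have h2 : (M * D⁻¹).1.det * D.1.det = M.1.det := by
      rw [← det_mul, ← Units.val_mul, inv_mul_cancel_right]
    rw [hD, hdet, e] at h2
    exact mul_right_cancel₀ hd (h2.trans (one_mul d).symm)
  rw [← inv_mul_cancel_right M D, map_mul, map_mul, invt_lev_sl hF hm h1, one_mul]
  obtain ⟨s, hs, hsv⟩ := hF.exists_scale (e := vm (Pi.single j 1) 0 0) (f := vm 0 (Pi.single j 1) 0)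
    (by rw [qM_vm]; simp [qm_zero]) (by rw [qM_vm]; simp [qm_zero]) (by rw [polar_vm]; simp) hd
  rw [← hs]
  refine hF.invt_eq_of _ _ (extM fun x y z => ?_)
  rw [hsv, show (levO' m a b D).1 = levM F m D from rfl, levM_mulVec, polar_vm, polar_vm, vm_smul,
    vm_smul, vm_add, vm_add, vm_inj, ti_diag hD, hD]
  refine ⟨?_, ?_, by simp⟩ <;> funext i <;> rw [mulVec_diagonal] <;> by_cases hi : i = j
  · subst hi; simp; ring
  · simp [hi]
  · subst hi; simp; ring
  · simp [hi]

include hF in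
/-- Levi elements of square determinant -/
theorem invt_levO_square (hm : 3 ≤ m) (M : GL (Fin m) F) (h : IsSquare M.1.det) :
    hF.invt (levO' m a b M) = 1 := by
  rw [invt_levO hF hm M ((Matrix.isUnit_iff_isUnit_det _).1 M.isUnit).ne_zero rfl,
    (sqMk_eq_one_iff _).2 h]
  rfl

set_option maxHeartbeats 400000 in
include hF in
theorem invt_upAlt (hm : 3 ≤ m) {X : Matrix (Fin m) (Fin m) F} (h : IsA false X) :
    hF.invt ⟨upE a b 0 X, upE_mem.2 (uok_alt h)⟩ = 1 := by
  let φ : Matrix (Fin m) (Fin m) F → SqClass F × Multiplicative (ZMod 2) :=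
    fun S => hF.invt ⟨upE a b 0 (S - Sᵀ), upE_mem.2 (uok_alt (isA_sub_transpose S))⟩
  have hadd : ∀ S S', φ (S + S') = φ S * φ S' := fun S S' => by
    simp only [φ]
    rw [← map_mul hF.invt]
    refine congrArg _ (Subtype.ext ?_)
    show upE a b 0 _ = upE a b 0 _ * upE a b 0 _
    rw [upE_mul]
    congr 1
    · simp
    · simp; abel
  obtain ⟨S, rfl⟩ := exists_sub_transpose h
  show φ S = 1
  clear h
  induction S using Matrix.induction_on' with
  | h_zero =>
    have h0 := hadd 0 0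
    rw [add_zero] at h0
    exact mul_eq_left.1 h0.symm
  | h_add p q hp hq => rw [hadd, hp, hq, one_mul]
  | h_std_basis j k c =>
    by_cases hjk : j = k
    · subst hjk
      rw [← map_one hF.invt]
      refine congrArg hF.invt (Subtype.ext ?_)
      show upE a b 0 _ = 1
      rw [← upE_zero, Matrix.transpose_single, sub_self]
    obtain ⟨i, hij, hik⟩ : ∃ i : Fin m, i ≠ j ∧ i ≠ k := by
      by_contra hc
      push Not at hc
      have hsub : (Finset.univ : Finset (Fin m)) ⊆ {j, k} := fun l _ => by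
        by_cases hl : l = j
        · simp [hl]
        · simp [hc l hl]
      have := (Finset.card_le_card hsub).trans Finset.card_le_two
      simp at this
      omega
    let t : GL (Fin m) F := Matrix.GeneralLinearGroup.mkOfDetNeZero (transvection j i (1 : F))
      (by rw [det_transvection_of_ne j i (Ne.symm hij)]; exact one_ne_zero)
    have e : t.1 * Matrix.single i k c * t.1ᵀ = Matrix.single i k c + Matrix.single j k c := by
      show transvection j i (1 : F) * Matrix.single i k c * (transvection j i (1 : F))ᵀ = _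
      rw [transvection, transpose_add, transpose_one, Matrix.transpose_single, Matrix.add_mul,
        Matrix.one_mul, Matrix.single_mul_single_same, one_mul, Matrix.mul_add, Matrix.mul_one,
        Matrix.add_mul, Matrix.single_mul_single_of_ne c i k i (Ne.symm hik),
        Matrix.single_mul_single_of_ne c j k i (Ne.symm hik), add_zero, add_zero]
    have h1 := hF.invt_conj (levO' m a b t)
      ⟨upE a b 0 (Matrix.single i k c - (Matrix.single i k c)ᵀ),
        upE_mem.2 (uok_alt (isA_sub_transpose _))⟩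
    have h2 : φ (Matrix.single i k c + Matrix.single j k c) = φ (Matrix.single i k c) := by
      refine Eq.trans (congrArg hF.invt (Subtype.ext ?_)) h1
      show upE a b 0 _ = levM F m t * upE a b 0 _ * (levM F m t)⁻¹
      rw [lev_conj_up, Matrix.zero_mul, ← e, Matrix.mul_sub, Matrix.sub_mul, transpose_mul,
        transpose_mul, transpose_transpose, Matrix.mul_assoc t.1 (Matrix.single i k c)ᵀ]
    rw [hadd] at h2
    exact mul_eq_left.1 h2

set_option maxHeartbeats 400000 in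
include hF in
theorem invt_upE (hm : 3 ≤ m) {R : Matrix (Fin 2) (Fin m) F} {X : Matrix (Fin m) (Fin m) F}
    (h : UOK a b R X) : hF.invt ⟨upE a b R X, upE_mem.2 h⟩ = 1 := by
  let ψ : Matrix (Fin 2) (Fin m) F → SqClass F × Multiplicative (ZMod 2) :=
    fun R => hF.invt ⟨upE a b R _, upE_mem.2 (uok_gram R)⟩
  have hψ : ∀ R X (h : UOK a b R X), hF.invt ⟨upE a b R X, upE_mem.2 h⟩ = ψ R := by
    intro R X h
    have hX := isA_of_uok h (uok_gram R)
    rw [show ψ R = hF.invt ⟨upE a b 0 (X - -(Rᵀ * Gm a b * R)), upE_mem.2 (uok_alt hX)⟩ * ψ R by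
      rw [invt_upAlt hF hm hX, one_mul], ← map_mul]
    refine congrArg _ (Subtype.ext ?_)
    show upE a b R X = upE a b 0 _ * upE a b R _
    rw [upE_mul]
    simp
  rw [hψ R X h]
  have hadd : ∀ R R', ψ (R + R') = ψ R * ψ R' := fun R R' => by
    conv_rhs => simp only [ψ]
    rw [← map_mul hF.invt]
    refine ((hψ _ _ (upE_mem.1 ?_)).symm).trans (congrArg _ (Subtype.ext (upE_mul R R' _ _).symm))
    rw [← upE_mul]
    exact mul_mem (upE_mem.2 (uok_gram R)) (upE_mem.2 (uok_gram R'))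
  clear h
  induction R using Matrix.induction_on' with
  | h_zero =>
    have h0 := hadd 0 0
    rw [add_zero] at h0
    exact mul_eq_left.1 h0.symm
  | h_add p q hp hq => rw [hadd, hp, hq, one_mul]
  | h_std_basis r k c =>
    obtain ⟨j, hjk⟩ : ∃ j : Fin m, j ≠ k :=
      Fintype.exists_ne_of_one_lt_card (by simp; omega) k
    let t : GL (Fin m) F := Matrix.GeneralLinearGroup.mkOfDetNeZero (transvection k j (1 : F))
      (by rw [det_transvection_of_ne k j (Ne.symm hjk)]; exact one_ne_zero)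
    have e : Matrix.single r j c * t.1ᵀ = Matrix.single r j c + Matrix.single r k c := by
      show Matrix.single r j c * (transvection k j (1 : F))ᵀ = _
      simp [transvection, Matrix.transpose_single, Matrix.mul_add]
    have h1 := hF.invt_conj (levO' m a b t)
      ⟨upE a b (Matrix.single r j c) _, upE_mem.2 (uok_gram _)⟩
    have h2 : ψ (Matrix.single r j c + Matrix.single r k c) = ψ (Matrix.single r j c) := by
      refine Eq.trans ((hψ _ (t.1 * -((Matrix.single r j c)ᵀ * Gm a b * Matrix.single r j c) * t.1ᵀ)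
        (upE_mem.1 ?_)).symm.trans (congrArg hF.invt (Subtype.ext ?_))) h1
      · rw [← e, ← lev_conj_up]
        exact mul_mem (mul_mem (levM_mem t) (upE_mem.2 (uok_gram _))) (inv_mem (levM_mem t))
      · show upE a b _ _ = levM F m t * upE a b _ _ * (levM F m t)⁻¹
        rw [lev_conj_up, e]
    rw [hadd] at h2
    exact mul_eq_left.1 h2

include hF in
theorem invt_upS (hm : 3 ≤ m) {u : OM m a b} (hu : u.1 ∈ UpS m a b) : hF.invt u = 1 := by
  obtain ⟨R, X, h, e⟩ := hu
  rw [show u = ⟨upE a b R X, upE_mem.2 h⟩ from Subtype.ext e]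
  exact invt_upE hF hm h

include hF in
theorem invt_loS (hm : 3 ≤ m) {u : OM m a b} (hu : u.1 ∈ LoS m a b) : hF.invt u = 1 := by
  rw [← hF.invt_conj ⟨flp F m, flp_mem⟩ u]
  exact invt_upS hF hm (LoS_conj.1 hu)

end CfsgLib.KnownB.OreOmegaMinus
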