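import Cfsg.Agent.Lib.KnownB.OreOmegaMinus.TinyData

/-!
Transferring the finite check to any field with two elements.
-/

set_option autoImplicit false

namespace CfsgLib.KnownB.OreOmegaMinus.Tiny

open Matrix

variable {S T : Type*} [CommRing S] [CommRing T]

theorem rows_map (f : S →+* T) (r s : Fin 3 → S) :
    (rows r s).map f = rows (f ∘ r) (f ∘ s) := by
  ext i j; fin_cases i <;> rfl

theorem altT_map (f : S →+* T) (a : Fin 3 → S) : (altT a).map f = altT (f ∘ a) := by
  ext i j; fin_cases i <;> fin_cases j <;> simp [altT]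

theorem blk_map (f : S →+* T) (r s a : Fin 3 → S) :
    (blk r s a).map f = blk (f ∘ r) (f ∘ s) (f ∘ a) := by
  have hG : (G1 S).map f = G1 T := by ext i j; fin_cases i <;> fin_cases j <;> simp [G1]
  rw [blk, blk, ← rows_map, ← altT_map, ← hG]
  rw [Matrix.map_add _ (map_add f), Matrix.map_neg _ (map_neg f), Matrix.map_mul, Matrix.map_mul,
    Matrix.transpose_map]

/-- the check over any field with two elements -/
theorem exists_fine {K : Type*} [CommRing K] (e : ZMod 2 ≃+* K) (r s a : Fin 3 → K)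
    (h : ¬(r = 0 ∧ s = 0 ∧ a = 0)) : ∃ r' s' a', Fine r s a r' s' a' := by
  obtain ⟨r', s', a', hd, hmid, hm⟩ := exists_fine_zmod (e.symm ∘ r) (e.symm ∘ s) (e.symm ∘ a)
    fun hh => h ⟨funext fun i => by simpa using congrFun hh.1 i,
      funext fun i => by simpa using congrFun hh.2.1 i,
      funext fun i => by simpa using congrFun hh.2.2 i⟩
  let f : ZMod 2 →+* K := e.toRingHom
  have hc : ∀ v : Fin 3 → K, f ∘ (e.symm ∘ v) = v := fun v => funext fun i => by simp [f]
  have hB : (B1 (ZMod 2)).map f = B1 K := by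
    ext i j; fin_cases i <;> fin_cases j <;> simp [B1]
  have hT : (tt (ZMod 2)).map f = tt K := by ext i j; fin_cases i <;> fin_cases j <;> simp [tt]
  have hone : ∀ {n : Type} [DecidableEq n], (1 : Matrix n n (ZMod 2)).map f = 1 :=
    fun {n} _ => Matrix.map_one f (map_zero f) (map_one f)
  set X := corner (rows (e.symm ∘ r) (e.symm ∘ s)) (blk (e.symm ∘ r) (e.symm ∘ s) (e.symm ∘ a))
    (rows r' s') (blk r' s' a') with hXd
  have hX : X.map f = corner (rows r s) (blk r s a) (rows (f ∘ r') (f ∘ s'))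
      (blk (f ∘ r') (f ∘ s') (f ∘ a')) := by
    conv_rhs => rw [← hc r, ← hc s, ← hc a, ← rows_map, ← rows_map, ← blk_map, ← blk_map]
    rw [hXd, corner, corner, ← hB]
    simp [Matrix.map_sub, Matrix.map_add, Matrix.map_mul, Matrix.transpose_map, hone]
  refine ⟨f ∘ r', f ∘ s', f ∘ a', ?_, ?_, ?_⟩
  · rw [← hX, ← RingHom.mapMatrix_apply, ← RingHom.map_det, hd, map_one]
  · have hadj : ∀ M : Matrix (Fin 3) (Fin 3) (ZMod 2), (adj M).map f = adj (M.map f) := fun M => by
      ext i j; fin_cases i <;> fin_cases j <;> simp [adj]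
    have := congrArg (fun M => M.map f) hmid
    rw [hone] at this
    conv_rhs => rw [← this]
    rw [middle, middle, ← hXd, ← hX, ← hadj]
    conv_lhs => rw [← hc r, ← hc s, ← hc a, ← rows_map, ← rows_map, ← blk_map, ← blk_map, ← hB]
    simp [Matrix.map_sub, Matrix.map_add, Matrix.map_mul, Matrix.transpose_map, hone]
  · rw [← hX, ← hT, ← Matrix.map_mul]
    rcases hm with hm | ⟨i, j, k, l, hm⟩
    · left; rw [hm, hone]
    · refine Or.inr ⟨i, j, k, l, ?_⟩
      rw [← hone (n := Fin 3), ← Matrix.map_sub f (map_sub f)]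
      simp only [Matrix.map_apply, ← map_mul]
      exact fun h => hm (e.injective h)

end CfsgLib.KnownB.OreOmegaMinus.Tiny
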