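import Cfsg.Agent.Lib.KnownB.OreOmegaMinus.Transv
import Cfsg.Agent.Lib.KnownB.OreOmegaMinus.TinyCheck

/-!
Dimension eight over two elements: moving a transvection corner away.
-/

set_option autoImplicit false
set_option linter.unusedSectionVars false

namespace CfsgLib.KnownB.OreOmegaMinus

open Matrix QuadraticMap Module CfsgLib.Geometry CfsgLib.Thompson CfsgLib.KnownB.Sourour

variable {F : Type*} [Field F] {m : ℕ} {a b : F}

/-- an upper element times a lower element with invertible corner -/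
theorem up_mul_lo_mat {R : Matrix (Fin 2) (Fin m) F} {X : Matrix (Fin m) (Fin m) F}
    (hX : UOK a b R X) {R₁ : Matrix (Fin 2) (Fin m) F} {T : Matrix (Fin m) (Fin m) F}
    (hok : UOK a b R₁ T) (K : GL (Fin m) F) (hK : K.1 = 1 + X * T - Rᵀ * Bm a b * R₁) :
    ∃ l ∈ LoS m a b, ∃ (k : OMid a b) (R' : Matrix (Fin 2) (Fin m) F)
      (X' : Matrix (Fin m) (Fin m) F), UOK a b R' X' ∧
      upE a b R X * loE a b R₁ T = l * levM F m K * midM F m k.1 * upE a b R' X' ∧
      k.1.1 = 1 - R * (R₁ᵀ * Bm a b) +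
        (R₁ + R * T) * ((K⁻¹).1 * ((X * R₁ᵀ + Rᵀ) * Bm a b)) := by
  classical
  set g := upE a b R X * loE a b R₁ T
  have hg : g ∈ OM m a b := mul_mem (upE_mem.2 hX) (loE_mem hok)
  have hgx : ∀ x, g.1 *ᵥ vm x 0 0 = vm (K.1 *ᵥ x) (T *ᵥ x) ((R₁ + R * T) *ᵥ x) := fun x => by
    rw [Units.val_mul, ← mulVec_mulVec, loE_mulVec, upE_val, upMat_mulVec, vm_inj, hK]
    simp only [mulVec_zero, sub_zero, zero_add, add_mulVec, sub_mulVec, one_mulVec, ← mulVec_mulVec]
    exact ⟨trivial, trivial, trivial⟩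
  have hcA : crA g = K.1 := Matrix.ext_iff_mulVec.2 fun x => by
    rw [(vm_inj.1 ((mulVec_vx g x).symm.trans (hgx x))).1]
  obtain ⟨hl, k, R', X', hk, hX', e⟩ := ldu hg (M := K) hcA.symm
  set S := crE g * (K⁻¹).1
  set T' := crC g * (K⁻¹).1
  have hE : crE g = R₁ + R * T := Matrix.ext_iff_mulVec.2 fun x =>
    (vm_inj.1 ((mulVec_vx g x).symm.trans (hgx x))).2.2
  have hcol : ∀ z, g.1 *ᵥ vm 0 0 z =
      vm (-(((X * R₁ᵀ + Rᵀ) * Bm a b) *ᵥ z)) (-(R₁ᵀ *ᵥ (Bm a b *ᵥ z)))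
        ((1 - R * (R₁ᵀ * Bm a b)) *ᵥ z) := fun z => by
    rw [Units.val_mul, ← mulVec_mulVec, loE_mulVec, upE_val, upMat_mulVec, vm_inj]
    simp only [mulVec_zero, add_zero, zero_add, sub_eq_add_neg, mulVec_neg, add_mulVec, neg_mulVec,
      one_mulVec, ← mulVec_mulVec]
    refine ⟨by abel, trivial, trivial⟩
  have hrhs : ∀ z, g.1 *ᵥ vm 0 0 z = vm (-(K.1 *ᵥ (R'ᵀ *ᵥ (Bm a b *ᵥ z))))
      (-(T' *ᵥ (K.1 *ᵥ (R'ᵀ *ᵥ (Bm a b *ᵥ z)))) - Sᵀ *ᵥ (Bm a b *ᵥ (k.1 *ᵥ z)))
      (k.1 *ᵥ z - S *ᵥ (K.1 *ᵥ (R'ᵀ *ᵥ (Bm a b *ᵥ z)))) := fun z => by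
    rw [e, Units.val_mul, Units.val_mul, Units.val_mul, ← mulVec_mulVec, ← mulVec_mulVec,
      ← mulVec_mulVec, upE_val, upMat_mulVec, midM_mulVec, levM_mulVec, loE_mulVec, vm_inj]
    simp only [mulVec_zero, add_zero, zero_add, zero_sub, mulVec_neg]
    refine ⟨trivial, trivial, ?_⟩
    abel
  refine ⟨_, mem_LoS.2 ⟨_, _, hl, rfl⟩, ⟨k, hk⟩, R', X', hX', e,
    Matrix.ext_iff_mulVec.2 fun z => ?_⟩
  have h1 := neg_injective (vm_inj.1 ((hrhs z).symm.trans (hcol z))).1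
  have h3 := (vm_inj.1 ((hrhs z).symm.trans (hcol z))).2.2
  rw [h1] at h3
  simp only [S, hE, ← mulVec_mulVec] at h3
  rw [add_mulVec, ← mulVec_mulVec, ← mulVec_mulVec]
  simp only [← mulVec_mulVec]
  exact sub_eq_iff_eq_add.1 h3

/-- transvections are conjugate to the standard one -/
theorem exists_conj_std {n : ℕ} {i₀ i₁ : Fin n} (hi : i₀ ≠ i₁) (M : Matrix (Fin n) (Fin n) F)
    (hM : M.det = 1) (hne : M ≠ 1) (hr : (M - 1).rank < 2) :
    ∃ Q : GL (Fin n) F, Q.1 * M * (Q⁻¹).1 = 1 + Matrix.single i₀ i₁ 1 := by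
  classical
  obtain ⟨f, u, hf, hu, hfu, hAt⟩ := exists_transvection (toLin' M)
    (by rw [LinearMap.det_toLin', hM])
    (fun h => hne (Matrix.toLin'.injective (by rw [Matrix.toLin'_one, ← Module.End.one_eq_id, h])))
    (by
      have e1 : toLin' M - 1 = (M - 1).mulVecLin := LinearMap.ext fun v => by simp
      rw [e1]; exact hr)
  let u₀ : Fin n → F := Pi.single i₀ 1
  let f₀ : Dual F (Fin n → F) := LinearMap.proj i₁
  have hf₀ : f₀ ≠ 0 := fun h => (one_ne_zero : (1 : F) ≠ 0) (by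
    simpa [f₀] using LinearMap.congr_fun h (Pi.single i₁ (1 : F)))
  have hu₀ : u₀ ≠ 0 := fun h => (one_ne_zero : (1 : F) ≠ 0) (by
    simpa [u₀] using congrFun h i₀)
  have hfu₀ : f₀ u₀ = 0 := by simp [f₀, u₀, Ne.symm hi]
  set M0 : Matrix (Fin n) (Fin n) F := 1 + Matrix.single i₀ i₁ 1
  have hM0t : toLin' M0 = LinearMap.transvection f₀ u₀ := LinearMap.ext fun v => by
    rw [LinearMap.transvection.apply, toLin'_apply, add_mulVec, one_mulVec]
    simp only [f₀, u₀, LinearMap.proj_apply, Matrix.single_mulVec]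
    funext i
    simp [Pi.single_apply, Function.update_apply]
  obtain ⟨φ, hφ⟩ := transvection_conj f f₀ u u₀ hf hf₀ hu hu₀ hfu hfu₀
  set Q := LinearMap.toMatrix' φ.toLinearMap
  set Qi := LinearMap.toMatrix' φ.symm.toLinearMap
  have hQ : M0 * Q = Q * M := by
    have h' : toLin' M0 * φ.toLinearMap = φ.toLinearMap * toLin' M := LinearMap.ext fun v => by
      rw [hAt, hM0t]; exact (hφ v).symm
    have h'' := congrArg LinearMap.toMatrix' h'
    rwa [LinearMap.toMatrix'_mul, LinearMap.toMatrix'_mul, LinearMap.toMatrix'_toLin',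
      LinearMap.toMatrix'_toLin'] at h''
  have hQQ : Q * Qi = 1 := by
    rw [← LinearMap.toMatrix'_mul, Module.End.mul_eq_comp, LinearEquiv.comp_coe,
      LinearEquiv.symm_trans_self, LinearEquiv.refl_toLinearMap, LinearMap.toMatrix'_id]
  refine ⟨⟨Q, Qi, hQQ, mul_eq_one_comm.1 hQQ⟩, ?_⟩
  show Q * M * Qi = M0
  rw [← hQ, Matrix.mul_assoc, hQQ, Matrix.mul_one]

theorem rank_of_minor {N : Matrix (Fin 3) (Fin 3) F}
    (h : ∃ i j k l : Fin 3, N i k * N j l ≠ N i l * N j k) : 2 ≤ N.rank := by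
  obtain ⟨i, j, k, l, h⟩ := h
  have hli : LinearIndependent F ![N *ᵥ Pi.single k 1, N *ᵥ Pi.single l 1] := by
    rw [LinearIndependent.pair_iff]
    intro s t e
    have ei : s * N i k + t * N i l = 0 := by simpa using congrFun e i
    have ej : s * N j k + t * N j l = 0 := by simpa using congrFun e j
    have hD : N i k * N j l - N i l * N j k ≠ 0 := sub_ne_zero.2 h
    constructor
    · exact (mul_eq_zero.1 (show (N i k * N j l - N i l * N j k) * s = 0 by
        linear_combination N j l * ei - N i l * ej)).resolve_left hD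
    · exact (mul_eq_zero.1 (show (N i k * N j l - N i l * N j k) * t = 0 by
        linear_combination N i k * ej - N j k * ei)).resolve_left hD
  have h2 : Module.finrank F
      (Submodule.span F (Set.range ![N *ᵥ Pi.single k 1, N *ᵥ Pi.single l 1])) = 2 := by
    rw [finrank_span_eq_card hli]; rfl
  rw [Matrix.rank, ← h2]
  refine Submodule.finrank_mono (Submodule.span_le.2 ?_)
  rintro _ ⟨a, rfl⟩
  fin_cases a <;> exact LinearMap.mem_range_self N.mulVecLin _

variable [Fintype F] (hF : GoodForm (qM 3 a b))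

include hF in
/-- a transvection corner with a non-trivial upper part -/
theorem comm_tiny_move (hAn : Aniso a b) (h2 : Fintype.card F = 2)
    (hc : ∀ M : Matrix (Fin 3) (Fin 3) F, M.det = 1 → (M = 1 ∨ 2 ≤ (M - 1).rank) → CornerM a b M)
    {g : OM 3 a b} {l : GL (Ix 3) F} (hl : l ∈ LoS 3 a b) {A : GL (Fin 3) F} (hA : A.1.det = 1)
    (hA1 : A.1 ≠ 1) (hr : (A.1 - 1).rank < 2) {R : Matrix (Fin 2) (Fin 3) F}
    {X : Matrix (Fin 3) (Fin 3) F} (hX : UOK a b R X) (hne : R ≠ 0 ∨ X ≠ 0)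
    (e : g.1 = l * levM F 3 A * upE a b R X) : IsCommM hF g := by
  classical
  have e2 : ZMod 2 ≃+* F := ZMod.ringEquivOfPrime F Nat.prime_two h2
  have two : (2 : F) = 0 := by
    have := FiniteField.cast_card_eq_zero F
    rw [h2] at this; exact_mod_cast this
  have h01 : ∀ x : F, x = 0 ∨ x = 1 := fun x => by
    rcases eq_or_ne x 0 with h | h
    · exact Or.inl h
    · have := FiniteField.pow_card x
      rw [h2, pow_two] at this
      exact Or.inr (mul_left_cancel₀ h (this.trans (mul_one x).symm))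
  have hb : b = 1 := (h01 b).resolve_left fun h => by
    have := hAn (Pi.single 1 1) (by rw [qm_apply, h]; simp)
    simpa using congrFun this 1
  have ha : a = 1 := (h01 a).resolve_left fun h => by
    have := hAn ![1, 1] (by rw [qm_apply, h, hb]; simp; linear_combination two)
    simpa using congrFun this 0
  have hG : Gm a b = Tiny.G1 F := by rw [ha, hb]; rfl
  have hB : Bm a b = Tiny.B1 F := by
    rw [Bm, hG]
    ext i j; fin_cases i <;> fin_cases j <;> simp [Tiny.G1, Tiny.B1]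
  obtain ⟨Q, hQ⟩ := exists_conj_std (i₀ := (0 : Fin 3)) (i₁ := 1) (by decide) A.1 hA hA1 hr
  have htt : (Q * A * Q⁻¹).1 = Tiny.tt F := by
    rw [Units.val_mul, Units.val_mul, hQ]
    ext i j; fin_cases i <;> fin_cases j <;> simp [Tiny.tt]
  set R₀ := R * Q.1ᵀ
  set X₀ := Q.1 * X * Q.1ᵀ
  have hX₀ : UOK a b R₀ X₀ := upE_mem.1 (by
    rw [← lev_conj_up]; exact mul_mem (mul_mem (levM_mem Q) (upE_mem.2 hX)) (inv_mem (levM_mem Q)))
  have hne₀ : R₀ ≠ 0 ∨ X₀ ≠ 0 := by
    by_contra hcon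
    push Not at hcon
    have h0 : upE a b R X = 1 := by
      have h := lev_conj_up (a := a) (b := b) Q R X
      rw [show R * Q.1ᵀ = 0 from hcon.1, show Q.1 * X * Q.1ᵀ = 0 from hcon.2, upE_zero] at h
      exact conj_eq_one_iff.1 h
    rw [← upE_zero] at h0
    obtain ⟨h1, h2⟩ := upE_inj h0
    exact hne.elim (fun h => h h1) fun h => h h2
  let r := R₀ 0
  let s := R₀ 1
  have hrows : Tiny.rows r s = R₀ := by ext i j; fin_cases i <;> rfl
  have halt := isA_of_uok hX₀ (uok_gram R₀)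
  obtain ⟨ha', hd'⟩ := halt
  have hd' := hd' rfl
  set D := X₀ - -(R₀ᵀ * Gm a b * R₀) with hD
  let v : Fin 3 → F := ![D 1 2, D 2 0, D 0 1]
  have halt' : Tiny.altT v = D := by
    have hs : ∀ i j, D i j = -D j i := fun i j => by simpa using congrFun (congrFun ha' j) i
    ext i j
    fin_cases i <;> fin_cases j <;> simp [Tiny.altT, v, hd'] <;> exact (hs _ _).symm
  have hblk : Tiny.blk r s v = X₀ := by
    rw [Tiny.blk, hrows, halt', hD, hG]; abel
  obtain ⟨r', s', a', hd1, hmid, hfine⟩ := Tiny.exists_fine e2 r s v (by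
    rintro ⟨hr0, hs0, ha0⟩
    have hR0 : R₀ = 0 := by
      rw [← hrows, hr0, hs0]; ext i j; fin_cases i <;> rfl
    refine hne₀.elim (fun h => h hR0) fun h => h ?_
    rw [← hblk, hr0, hs0, ha0, Tiny.blk]
    ext i j; fin_cases i <;> fin_cases j <;> simp [Tiny.altT, Tiny.rows, Matrix.mul_apply])
  rw [hrows, hblk] at hd1 hmid hfine
  set R₁ := Tiny.rows r' s'
  set T := Tiny.blk r' s' a'
  have hok : UOK a b R₁ T := fun y => by
    have h := uok_gram (a := a) (b := b) R₁ y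
    have hA0 : IsA false (Tiny.altT a') := by
      refine ⟨?_, fun _ i => by fin_cases i <;> simp [Tiny.altT]⟩
      ext i j; fin_cases i <;> fin_cases j <;> simp [Tiny.altT]
    rw [hG] at h
    show qm a b (R₁ *ᵥ y) + y ⬝ᵥ ((-(R₁ᵀ * Tiny.G1 F * R₁) + Tiny.altT a') *ᵥ y) = 0
    rw [add_mulVec, dotProduct_add, hA0.dot_self, add_zero]
    exact h
  set Kc := Tiny.corner R₀ X₀ R₁ T with hKc
  let K := Matrix.GeneralLinearGroup.mkOfDetNeZero Kc (by rw [hd1]; exact one_ne_zero)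
  have hKi : (K⁻¹).1 = Tiny.adj Kc := by
    have h1 : K.1 * Tiny.adj Kc = 1 := by
      show Kc * _ = 1
      rw [Tiny.mul_adj, hd1, one_smul]
    calc (K⁻¹).1 = (K⁻¹).1 * (K.1 * Tiny.adj Kc) := by rw [h1, Matrix.mul_one]
      _ = _ := by rw [← Matrix.mul_assoc, Units.inv_mul, Matrix.one_mul]
  obtain ⟨l', hl', k, R', X', hX', eu, hk⟩ := up_mul_lo_mat hX₀ hok K (by
    show Kc = _
    rw [hKc, Tiny.corner, hB])
  have hk1 : k = 1 := by
    refine Subtype.ext (Units.ext ?_)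
    rw [hk, hKi, hB, OneMemClass.coe_one, Units.val_one]
    exact hmid
  have hlo : loE a b R₁ T ∈ LoS 3 a b := mem_LoS.2 ⟨_, _, hok, rfl⟩
  obtain ⟨l'', hl'', ec⟩ := cell_conj (lev_norm_lo Q hl) hlo hl' (Q * A * Q⁻¹) K 1 k eu
  simp only [hk1, mul_one, OneMemClass.coe_one, map_one] at ec
  let x : OM 3 a b := (⟨loE a b R₁ T, LoS_le hlo⟩ : OM 3 a b)⁻¹ * levO' 3 a b Q
  refine IsCommM.of_conj hF (x := x) (comm_of_cornerM hF le_rfl hl'' (M := Q * A * Q⁻¹ * K) ?_ hX' ?_)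
  · refine hc _ ?_ ?_
    · rw [Units.val_mul, htt, det_mul]
      have : (Tiny.tt F).det = 1 := by simp [Tiny.tt, det_fin_three]
      rw [this, one_mul]; exact hd1
    · rw [Units.val_mul, htt]
      rcases hfine with h | h
      · exact Or.inl h
      · exact Or.inr (rank_of_minor h)
  · rw [← ec, ← lev_conj_up]
    show (loE a b R₁ T)⁻¹ * levM F 3 Q * g.1 * ((loE a b R₁ T)⁻¹ * levM F 3 Q)⁻¹ = _
    rw [e, map_mul, map_mul, map_inv]
    group

include hF in
/-- every reduced element over two elements in dimension eight -/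
theorem comm_tiny (hAn : Aniso a b) (h2 : Fintype.card F = 2)
    (hc : ∀ M : Matrix (Fin 3) (Fin 3) F, M.det = 1 → (M = 1 ∨ 2 ≤ (M - 1).rank) → CornerM a b M)
    {g : OM 3 a b} {l : GL (Ix 3) F} (hl : l ∈ LoS 3 a b) {A : GL (Fin 3) F} (hA : A.1.det = 1)
    {R : Matrix (Fin 2) (Fin 3) F} {X : Matrix (Fin 3) (Fin 3) F} (hX : UOK a b R X)
    (e : g.1 = l * levM F 3 A * upE a b R X) : IsCommM hF g := by
  classical
  by_cases hgood : A.1 = 1 ∨ 2 ≤ (A.1 - 1).rank
  · exact comm_of_cornerM hF le_rfl hl (hc _ hA hgood) hX e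
  push Not at hgood
  by_cases hne : R ≠ 0 ∨ X ≠ 0
  · exact comm_tiny_move hF hAn h2 hc hl hA hgood.1 hgood.2 hX hne e
  push Not at hne
  rw [hne.1, hne.2, upE_zero, mul_one] at e
  by_cases hl1 : l = 1
  · rw [hl1, one_mul] at e
    obtain ⟨P, S, eP⟩ := commutator_all (F := F) (by omega : 2 ≤ 3) (fun h => by omega)
      (⟨A.1, hA⟩ : Matrix.SpecialLinearGroup (Fin 3) F)
    refine ⟨levO' 3 a b (Matrix.SpecialLinearGroup.toGL P),
      levO' 3 a b (Matrix.SpecialLinearGroup.toGL S), invt_lev_sl hF le_rfl P.2,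
      invt_lev_sl hF le_rfl S.2, Subtype.ext (e.trans ?_)⟩
    rw [show A = Matrix.SpecialLinearGroup.toGL P * Matrix.SpecialLinearGroup.toGL S *
        (Matrix.SpecialLinearGroup.toGL P)⁻¹ * (Matrix.SpecialLinearGroup.toGL S)⁻¹ by
      rw [← map_inv, ← map_inv, ← map_mul, ← map_mul, ← map_mul, ← eP]
      exact Units.ext rfl]
    simp only [map_mul, map_inv]
    rfl
  let x : OM 3 a b := ⟨flp F 3, flp_mem⟩ * (⟨l, LoS_le hl⟩ : OM 3 a b)⁻¹
  refine IsCommM.of_conj hF (x := x) ?_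
  obtain ⟨R', X', hok, el⟩ := LoS_conj.1 hl
  have hti : (ti A).1 = (A⁻¹).1ᵀ := ti_val A
  have hdi : (A⁻¹).1.det = 1 := by
    have := congrArg Matrix.det A.inv_mul
    rwa [det_mul, det_one, hA, mul_one] at this
  refine comm_tiny_move hF hAn h2 hc (one_mem _) (A := ti A) ?_ ?_ ?_ hok ?_ ?_
  · rw [hti, det_transpose, hdi]
  · intro h
    refine hgood.1 ?_
    rw [hti, transpose_eq_one] at h
    have := A.mul_inv
    rwa [h, Matrix.mul_one] at this
  · refine lt_of_le_of_lt ?_ hgood.2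
    rw [hti, ← transpose_one, ← transpose_sub, rank_transpose,
      show (A⁻¹).1 - 1 = -(A⁻¹).1 * (A.1 - 1) by
        rw [Matrix.neg_mul, Matrix.mul_sub, Units.inv_mul, Matrix.mul_one, neg_sub]]
    simpa using rank_mul_le_right (-(A⁻¹).1) (A.1 - 1)
  · by_contra hcon
    push Not at hcon
    apply hl1
    rw [hcon.1, hcon.2, upE_zero] at el
    exact conj_eq_one_iff.1 el
  · show flp F 3 * l⁻¹ * g.1 * (flp F 3 * l⁻¹)⁻¹ = _
    rw [← el, e, one_mul, ← flp_conj_lev A]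
    group

end CfsgLib.KnownB.OreOmegaMinus
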