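import Cfsg.Agent.Lib.KnownB.OreOmegaMinus.Neg
import Cfsg.Agent.Lib.KnownB.OreOmegaMinus.Tiny
import Cfsg.Agent.Lib.KnownB.OreOmega.Three
import Cfsg.Agent.Lib.KnownB.OreOmega.Big
import Cfsg.Agent.Lib.KnownB.OreOmegaPlus.CornerEven
import Cfsg.Agent.Lib.KnownB.OreOmegaPlus.CornerBinary

/-!
Every element of `Ω⁻` is a commutator.
-/

set_option autoImplicit false

namespace CfsgLib.KnownB.OreOmegaMinus

open Matrix QuadraticMap CfsgLib.Geometry CfsgLib.Thompson CfsgLib.KnownB.OreOmega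

variable {F : Type*} [Field F] [Fintype F] {a b : F}

/-- corners for all non-scalar matrices, outside dimension three over two elements -/
theorem corners_minus {m : ℕ} (hm : 3 ≤ m) (hAn : Aniso a b)
    (hex : Fintype.card F = 2 → 4 ≤ m) (M : Matrix (Fin m) (Fin m) F) (hd : M.det = 1)
    (hns : ¬ ∃ l : F, M = l • 1) : CornerM a b M := by
  have h1 : 1 < Fintype.card F := Fintype.one_lt_card
  have hne : M ≠ 1 := fun h => hns ⟨1, by rw [h, one_smul]⟩
  by_cases h2 : Fintype.card F = 2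
  · by_cases h : 6 ≤ m ∨ M = 1 ∨ 2 ≤ (M - 1).rank
    · exact CornerM.of_corner (OreOmegaPlus.corner_two h2 hm M hd h)
    · simp only [not_or, not_le] at h
      have := hex h2
      exact cornerM_transv_two hAn h2 (by omega) M hd hne h.2.2
  rcases Nat.mod_two_eq_zero_or_one (Fintype.card F) with h | h
  · exact CornerM.of_corner (OreOmegaPlus.corner_even h (by omega) hm M hd (Or.inr hns))
  by_cases h3 : Fintype.card F = 3
  · rcases Nat.eq_or_lt_of_le hm with rfl | hm4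
    · by_cases hr : 2 ≤ (M - 1).rank
      · exact CornerM.of_corner (corner_three_three h3 M hd (Or.inl hr))
      · exact cornerM_transv_three h3 M hd hne (not_le.1 hr)
    · exact CornerM.of_corner (corner_three h3 hm4 M hd (Or.inr hns))
  · exact CornerM.of_corner (corner_big h (by omega) hm M hd (Or.inr hns))

/-- The theorem. -/
theorem ore_omega_minus (n : ℕ) (hn : 4 ≤ n) (a b : F)
    (hab : ∀ z₁ z₂ : F, z₁ ^ 2 + a * z₁ * z₂ + b * z₂ ^ 2 = 0 → z₁ = 0 ∧ z₂ = 0) :
    ∀ g : Cfsg.Omega F (Cfsg.quadFormMinus (n - 1) F a b),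
      ∃ x y : Cfsg.Omega F (Cfsg.quadFormMinus (n - 1) F a b), g = x * y * x⁻¹ * y⁻¹ := by
  obtain ⟨m, rfl⟩ : ∃ m, n = m + 1 := ⟨n - 1, by omega⟩
  have hm : 3 ≤ m := by omega
  show ∀ g : Cfsg.Omega F (Cfsg.quadFormMinus m F a b),
      ∃ x y : Cfsg.Omega F (Cfsg.quadFormMinus m F a b), g = x * y * x⁻¹ * y⁻¹
  rw [← coe_matQuad_minus]
  intro g
  have hF : GoodForm (qM m a b) := good_minus hm hab
  have hAn := aniso_of hab
  have hg : hF.invt g.1 = 1 := (hF.mem_Omega _).1 g.2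
  suffices h : IsCommM hF g.1 by
    obtain ⟨x, y, hx, hy, e⟩ := h
    exact ⟨⟨x, (hF.mem_Omega _).2 hx⟩, ⟨y, (hF.mem_Omega _).2 hy⟩, Subtype.ext e⟩
  by_cases hg1 : g.1.1.1 = 1
  · exact ⟨1, 1, map_one _, map_one _, Subtype.ext (Units.ext (by simpa using hg1))⟩
  by_cases hg2 : g.1.1.1 = -1
  · refine comm_neg hF hm hab (fun h2 => hg1 (hg2.trans ?_)) hg hg2
    ext i j
    rw [Matrix.neg_apply, Matrix.one_apply]
    split_ifs
    · linear_combination -h2
    · exact neg_zero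
  obtain ⟨x, hx, l, hl, A, R, X, hX, hd, hns, e⟩ := exists_reduced hF hm hAn g.1.2 hg hg1 hg2
  refine IsCommM.of_conj hF (x := ⟨x, hx⟩) ?_
  by_cases htiny : Fintype.card F = 2 ∧ m = 3
  · obtain ⟨h2, rfl⟩ := htiny
    exact comm_tiny hF hAn h2
      (fun M hd hM => CornerM.of_corner (OreOmegaPlus.corner_two h2 le_rfl M hd (Or.inr hM)))
      hl hd hX e
  · exact comm_of_cornerM hF hm hl
      (corners_minus hm hAn (fun h2 => by
        rcases Nat.eq_or_lt_of_le hm with h | h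
        · exact absurd ⟨h2, h.symm⟩ htiny
        · exact h) A.1 hd hns) hX e

end CfsgLib.KnownB.OreOmegaMinus
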