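import Cfsg.Agent.Lib.KnownB.OreOmegaMinus.Cell

/-!
Conjugating by lower rank-one elements until the middle part is trivial and the corner has
determinant one.
-/

set_option autoImplicit false
set_option linter.unusedSectionVars false

namespace CfsgLib.KnownB.OreOmegaMinus

open Matrix QuadraticMap CfsgLib.Geometry CfsgLib.Thompson CfsgLib.KnownB.Sourour

variable {F : Type*} [Field F] {m : ℕ} {a b : F}

/-- the middle vector entering the corner -/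
def mvec (R : Matrix (Fin 2) (Fin m) F) (X : Matrix (Fin m) (Fin m) F) (a b : F)
    (f : Fin m → F) (r : Fin 2 → F) : Fin m → F :=
  -(qm a b r) • (X *ᵥ f) - Rᵀ *ᵥ (Bm a b *ᵥ r)

theorem vecMulVec_mulVec' {p q : Type*} [Fintype q] (u : p → F) (v x : q → F) :
    vecMulVec u v *ᵥ x = (v ⬝ᵥ x) • u := by
  rw [vecMulVec_mulVec, op_smul_eq_smul]

theorem det_one_add_vecMulVec {n : Type*} [Fintype n] [DecidableEq n] (v f : n → F) :
    (1 + vecMulVec v f).det = 1 + f ⬝ᵥ v := by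
  rw [vecMulVec_eq Unit, det_one_add_replicateCol_mul_replicateRow]

/-- an upper element times a rank-one lower element -/
theorem up_mul_lo {R : Matrix (Fin 2) (Fin m) F} {X : Matrix (Fin m) (Fin m) F} (hR : UOK a b R X)
    (f : Fin m → F) (r : Fin 2 → F) (hN : 1 + f ⬝ᵥ mvec R X a b f r ≠ 0) :
    ∃ lo ∈ LoS m a b, ∃ l ∈ LoS m a b, ∃ (K : GL (Fin m) F) (k : OMid a b)
      (R' : Matrix (Fin 2) (Fin m) F) (X' : Matrix (Fin m) (Fin m) F), UOK a b R' X' ∧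
      upE a b R X * lo = l * levM F m K * midM F m k.1 * upE a b R' X' ∧
      K.1 = 1 + vecMulVec (mvec R X a b f r) f ∧
      (∀ z, k.1.1 *ᵥ z = z - (r ⬝ᵥ (Bm a b *ᵥ z)) • (R *ᵥ f) +
        ((1 + f ⬝ᵥ mvec R X a b f r)⁻¹ * ((R *ᵥ f) ⬝ᵥ (Bm a b *ᵥ z) -
          qm a b (R *ᵥ f) * (r ⬝ᵥ (Bm a b *ᵥ z)))) • (r - qm a b r • (R *ᵥ f))) ∧
      ∀ z, K.1 *ᵥ (R'ᵀ *ᵥ (Bm a b *ᵥ z)) =
        (r ⬝ᵥ (Bm a b *ᵥ z)) • (X *ᵥ f) + Rᵀ *ᵥ (Bm a b *ᵥ z) := by
  classical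
  set v := mvec R X a b f r with hv
  set R₁ : Matrix (Fin 2) (Fin m) F := vecMulVec r f
  set T : Matrix (Fin m) (Fin m) F := -(qm a b r) • vecMulVec f f
  have hok : UOK a b R₁ T := fun y => by
    rw [vecMulVec_mulVec', qm_smul, smul_mulVec, vecMulVec_mulVec', dotProduct_smul,
      dotProduct_smul, smul_eq_mul, smul_eq_mul, dotProduct_comm y f]
    ring
  have hlo : loE a b R₁ T ∈ LoS m a b := mem_LoS.2 ⟨_, _, hok, rfl⟩
  set g := upE a b R X * loE a b R₁ T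
  have hg : g ∈ OM m a b := mul_mem (upE_mem.2 hR) (loE_mem hok)
  have hgx : ∀ x, g.1 *ᵥ vm x 0 0 = vm (x + (f ⬝ᵥ x) • v) ((-(qm a b r) * (f ⬝ᵥ x)) • f)
      ((f ⬝ᵥ x) • (r - qm a b r • (R *ᵥ f))) := fun x => by
    rw [Units.val_mul, ← mulVec_mulVec, loE_mulVec, upE_val, upMat_mulVec, vm_inj]
    simp only [R₁, T, smul_mulVec, vecMulVec_mulVec', mulVec_zero, zero_add, add_zero, sub_zero,
      mulVec_smul, smul_smul, hv, mvec]
    refine ⟨?_, trivial, ?_⟩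
    · module
    · module
  set Km : Matrix (Fin m) (Fin m) F := 1 + vecMulVec v f
  have hKx : ∀ x, Km *ᵥ x = x + (f ⬝ᵥ x) • v := fun x => by
    rw [add_mulVec, one_mulVec, vecMulVec_mulVec']
  have hdet : Km.det ≠ 0 := by rw [det_one_add_vecMulVec]; exact hN
  let K := Matrix.GeneralLinearGroup.mkOfDetNeZero Km hdet
  have hcA : crA g = Km := Matrix.ext_iff_mulVec.2 fun x => by
    rw [(vm_inj.1 ((mulVec_vx g x).symm.trans (hgx x))).1, hKx]
  obtain ⟨hl, k, R', X', hk, hX', e⟩ := ldu hg (M := K) hcA.symm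
  set S := crE g * (K⁻¹).1
  set T' := crC g * (K⁻¹).1
  have hS : ∀ x, S *ᵥ (Km *ᵥ x) = (f ⬝ᵥ x) • (r - qm a b r • (R *ᵥ f)) := fun x => by
    rw [← (vm_inj.1 ((mulVec_vx g x).symm.trans (hgx x))).2.2, mulVec_mulVec, Matrix.mul_assoc,
      show Km = K.1 from rfl, Units.inv_mul, Matrix.mul_one]
  have hcol : ∀ z, g.1 *ᵥ vm 0 0 z =
      vm (-((r ⬝ᵥ (Bm a b *ᵥ z)) • (X *ᵥ f) + Rᵀ *ᵥ (Bm a b *ᵥ z)))
        (-((r ⬝ᵥ (Bm a b *ᵥ z)) • f)) (z - (r ⬝ᵥ (Bm a b *ᵥ z)) • (R *ᵥ f)) := fun z => by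
    have e1 : R₁ᵀ *ᵥ (Bm a b *ᵥ z) = (r ⬝ᵥ (Bm a b *ᵥ z)) • f := by
      rw [show R₁ᵀ = vecMulVec f r from transpose_vecMulVec r f, vecMulVec_mulVec']
    rw [Units.val_mul, ← mulVec_mulVec, loE_mulVec, upE_val, upMat_mulVec, vm_inj, e1]
    simp only [mulVec_zero, add_zero, zero_add, sub_eq_add_neg, mulVec_neg, mulVec_smul]
    refine ⟨by abel, trivial, trivial⟩
  have hrhs : ∀ z, g.1 *ᵥ vm 0 0 z = vm (-(Km *ᵥ (R'ᵀ *ᵥ (Bm a b *ᵥ z))))
      (-(T' *ᵥ (Km *ᵥ (R'ᵀ *ᵥ (Bm a b *ᵥ z)))) - Sᵀ *ᵥ (Bm a b *ᵥ (k.1 *ᵥ z)))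
      (k.1 *ᵥ z - S *ᵥ (Km *ᵥ (R'ᵀ *ᵥ (Bm a b *ᵥ z)))) := fun z => by
    rw [e, Units.val_mul, Units.val_mul, Units.val_mul, ← mulVec_mulVec, ← mulVec_mulVec,
      ← mulVec_mulVec, upE_val, upMat_mulVec, midM_mulVec, levM_mulVec, loE_mulVec, vm_inj]
    simp only [mulVec_zero, add_zero, zero_add, zero_sub, mulVec_neg, show K.1 = Km from rfl]
    refine ⟨trivial, trivial, ?_⟩
    abel
  have hKp : ∀ z, Km *ᵥ (R'ᵀ *ᵥ (Bm a b *ᵥ z)) =
      (r ⬝ᵥ (Bm a b *ᵥ z)) • (X *ᵥ f) + Rᵀ *ᵥ (Bm a b *ᵥ z) := fun z =>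
    neg_injective (vm_inj.1 ((hrhs z).symm.trans (hcol z))).1
  refine ⟨_, hlo, _, mem_LoS.2 ⟨_, _, hl, rfl⟩, K, ⟨k, hk⟩, R', X', hX', e, rfl, fun z => ?_, hKp⟩
  have h3 := (vm_inj.1 ((hrhs z).symm.trans (hcol z))).2.2
  rw [hS] at h3
  have h4 : f ⬝ᵥ (Km *ᵥ (R'ᵀ *ᵥ (Bm a b *ᵥ z))) =
      (1 + f ⬝ᵥ v) * (f ⬝ᵥ (R'ᵀ *ᵥ (Bm a b *ᵥ z))) := by
    rw [hKx, dotProduct_add, dotProduct_smul, smul_eq_mul]; ring
  have h5 : f ⬝ᵥ (Km *ᵥ (R'ᵀ *ᵥ (Bm a b *ᵥ z))) =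
      (R *ᵥ f) ⬝ᵥ (Bm a b *ᵥ z) - qm a b (R *ᵥ f) * (r ⬝ᵥ (Bm a b *ᵥ z)) := by
    rw [hKp, dotProduct_add, dotProduct_smul, smul_eq_mul, dotProduct_mulVec f Rᵀ, vecMul_transpose]
    linear_combination (r ⬝ᵥ (Bm a b *ᵥ z)) * hR f
  have h6 : f ⬝ᵥ (R'ᵀ *ᵥ (Bm a b *ᵥ z)) = (1 + f ⬝ᵥ v)⁻¹ * ((R *ᵥ f) ⬝ᵥ (Bm a b *ᵥ z) -
      qm a b (R *ᵥ f) * (r ⬝ᵥ (Bm a b *ᵥ z))) := by
    rw [← h5, h4, inv_mul_cancel_left₀ hN]
  rw [← h6]
  exact sub_eq_iff_eq_add.1 h3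

/-- two rank-one changes cannot both give scalar matrices -/
theorem nonscalar_or (hm : 3 ≤ m) {A : Matrix (Fin m) (Fin m) F} (hA : A.det ≠ 0)
    (hns : ¬ ∃ c : F, A = c • 1) {i j : Fin m} (hij : i ≠ j) (t : F) (v v' : Fin m → F)
    (h0 : 1 + (Pi.single j 1 : Fin m → F) ⬝ᵥ v ≠ 0) :
    (¬ ∃ c : F, A * (1 + vecMulVec v (Pi.single j 1)) = c • 1) ∨
      ¬ ∃ c : F, A * (1 + vecMulVec v' (Pi.single i 1 + t • Pi.single j 1)) = c • 1 := by
  classical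
  by_contra hcon
  push Not at hcon
  obtain ⟨⟨c, hc⟩, ⟨c', hc'⟩⟩ := hcon
  have hu : IsUnit A.det := isUnit_iff_ne_zero.2 hA
  set f : Fin m → F := Pi.single j 1
  set f' : Fin m → F := Pi.single i 1 + t • Pi.single j 1
  have e : c' • (1 + vecMulVec v f) = c • (1 + vecMulVec v' f') := by
    have h := congrArg (A⁻¹ * ·) (show A * (c' • (1 + vecMulVec v f)) =
      A * (c • (1 + vecMulVec v' f')) by rw [Matrix.mul_smul, Matrix.mul_smul, hc, hc', smul_smul,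
        smul_smul, mul_comm])
    simpa [← Matrix.mul_assoc, Matrix.nonsing_inv_mul _ hu] using h
  have hx : ∀ x, c' • x + (c' * (f ⬝ᵥ x)) • v = c • x + (c * (f' ⬝ᵥ x)) • v' := fun x => by
    have := congrArg (· *ᵥ x) e
    simp only [smul_mulVec, add_mulVec, one_mulVec, vecMulVec_mulVec', smul_add, smul_smul] at this
    exact this
  obtain ⟨l, hli, hlj⟩ : ∃ l : Fin m, l ≠ i ∧ l ≠ j := by
    by_contra hc
    push Not at hc
    have hsub : (Finset.univ : Finset (Fin m)) ⊆ {i, j} := fun l _ => by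
      by_cases hl : l = i
      · simp [hl]
      · simp [hc l hl]
    have := (Finset.card_le_card hsub).trans Finset.card_le_two
    simp at this
    omega
  have hcc : c' = c := by
    have h := congrFun (hx (Pi.single l 1)) l
    simpa [f, f', hli, hlj, Ne.symm hli, Ne.symm hlj, Pi.single_apply] using h
  have hc0 : c ≠ 0 := fun h => by
    have := congrArg Matrix.det hc
    have : Nonempty (Fin m) := ⟨j⟩
    rw [h, zero_smul, det_zero, det_mul, det_one_add_vecMulVec] at *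
    exact mul_ne_zero hA h0 (by assumption)
  have hv : v = 0 := by
    have h := hx (Pi.single j 1 - t • Pi.single i 1)
    have e1 : f ⬝ᵥ (Pi.single j 1 - t • Pi.single i 1) = 1 := by simp [f, hij, Ne.symm hij]
    have e2 : f' ⬝ᵥ (Pi.single j 1 - t • Pi.single i 1) = 0 := by simp [f', hij, Ne.symm hij]
    rw [e1, e2, hcc, mul_one, mul_zero, zero_smul, add_zero] at h
    exact (smul_eq_zero.1 (add_eq_left.1 h)).resolve_left hc0
  exact hns ⟨c, by rwa [hv, zero_vecMulVec, add_zero, Matrix.mul_one] at hc⟩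

/-- a direction on which a non-zero row block does not vanish, in two ways -/
theorem exists_two {ι : Type*} (hm : 3 ≤ m) {L : Matrix ι (Fin m) F} (h : L ≠ 0) :
    ∃ (i j : Fin m) (t : F), i ≠ j ∧ L *ᵥ Pi.single j 1 ≠ 0 ∧
      L *ᵥ (Pi.single i 1 + t • Pi.single j 1) ≠ 0 := by
  classical
  obtain ⟨j, hj⟩ : ∃ j, L *ᵥ Pi.single j 1 ≠ 0 := by
    by_contra hc
    push Not at hc
    exact h (Matrix.ext_iff_mulVec.2 fun x => by
      rw [zero_mulVec, pi_eq_sum_univ' x, mulVec_sum]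
      exact Finset.sum_eq_zero fun k _ => by rw [mulVec_smul, hc, smul_zero])
  obtain ⟨i, hi⟩ : ∃ i : Fin m, i ≠ j := Fintype.exists_ne_of_one_lt_card (by simp; omega) j
  by_cases h0 : L *ᵥ Pi.single i 1 = 0
  · exact ⟨i, j, 1, hi, hj, by rwa [mulVec_add, one_smul, h0, zero_add]⟩
  · exact ⟨i, j, 0, hi, hj, by rwa [zero_smul, add_zero]⟩

theorem bm_row_ne (hA : Aniso a b) [Finite F] : ∃ z, (Pi.single 0 1 : Fin 2 → F) ⬝ᵥ (Bm a b *ᵥ z) ≠ 0 := by
  by_contra hc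
  push Not at hc
  have h0 := hc (Pi.single 0 1)
  have h1 := hc (Pi.single 1 1)
  simp [Bm, Gm, one_add_one_eq_two] at h0 h1
  have hd : 4 * b - a * a ≠ 0 := (binAniso_discr (F := F) fun z₁ z₂ h => by
    have := hA ![z₁, z₂] (by rw [qm_apply]; simpa using h)
    exact ⟨congrFun this 0, congrFun this 1⟩).1
  exact hd (by rw [h1]; linear_combination (2 * b) * h0)

/-- reduced: trivial middle part, corner of determinant one and not scalar -/
def Reduced (g : GL (Ix m) F) (a b : F) : Prop :=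
  ∃ x ∈ OM m a b, ∃ l ∈ LoS m a b, ∃ (A : GL (Fin m) F) (R : Matrix (Fin 2) (Fin m) F)
    (X : Matrix (Fin m) (Fin m) F), UOK a b R X ∧ A.1.det = 1 ∧ (¬ ∃ c : F, A.1 = c • 1) ∧
    x * g * x⁻¹ = l * levM F m A * upE a b R X

theorem Reduced.of_conj {g x : GL (Ix m) F} (hx : x ∈ OM m a b) (h : Reduced (x * g * x⁻¹) a b) :
    Reduced g a b := by
  obtain ⟨y, hy, l, hl, A, R, X, hX, hd, hns, e⟩ := h
  exact ⟨y * x, mul_mem hy hx, l, hl, A, R, X, hX, hd, hns, by rw [← e]; group⟩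

/-- conjugating an element of the cell by a lower element on the right of its upper part -/
theorem cell_conj {l lo l' : GL (Ix m) F} (hl : l ∈ LoS m a b) (hlo : lo ∈ LoS m a b)
    (hl' : l' ∈ LoS m a b) (A K : GL (Fin m) F) (h k : OMid a b) {u u' : GL (Ix m) F}
    (e : u * lo = l' * levM F m K * midM F m k.1 * u') :
    ∃ l'' ∈ LoS m a b, lo⁻¹ * (l * levM F m A * midM F m h.1 * u) * lo =
      l'' * levM F m (A * K) * midM F m (h * k).1 * u' := by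
  refine ⟨lo⁻¹ * l * ((levM F m A * midM F m h.1) * l' * (levM F m A * midM F m h.1)⁻¹), ?_, ?_⟩
  · refine mul_mem (mul_mem (inv_mem hlo) hl) ?_
    rw [show levM F m A * midM F m h.1 * l' * (levM F m A * midM F m h.1)⁻¹ =
      levM F m A * (midM F m h.1 * l' * (midM F m h.1)⁻¹) * (levM F m A)⁻¹ by group]
    exact lev_norm_lo A (mid_norm_lo h.2 hl')
  · rw [show lo⁻¹ * (l * levM F m A * midM F m h.1 * u) * lo =
      lo⁻¹ * l * levM F m A * midM F m h.1 * (u * lo) by group, e, Subgroup.coe_mul, map_mul,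
      map_mul]
    calc lo⁻¹ * l * levM F m A * midM F m h.1 * (l' * levM F m K * midM F m k.1 * u') =
          lo⁻¹ * l * (levM F m A * midM F m h.1 * l' * (levM F m A * midM F m h.1)⁻¹) *
            (levM F m A * (midM F m h.1 * levM F m K)) * midM F m k.1 * u' := by group
      _ = _ := by rw [← lev_mid_comm]; group

variable [Fintype F] (hF : GoodForm (qM m a b))

include hF in
/-- an upper part with middle rows -/
theorem reduce_row (hm : 3 ≤ m) (hAn : Aniso a b) {g l : GL (Ix m) F} (hg : g ∈ OM m a b)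
    (hgi : hF.invt ⟨g, hg⟩ = 1) (hl : l ∈ LoS m a b) {A : GL (Fin m) F}
    (hns : ¬ ∃ c : F, A.1 = c • 1) (h : OMid a b) {R : Matrix (Fin 2) (Fin m) F}
    {X : Matrix (Fin m) (Fin m) F} (hX : UOK a b R X) (hR : R ≠ 0)
    (e : g = l * levM F m A * midM F m h.1 * upE a b R X) : Reduced g a b := by
  classical
  set d := A.1.det
  have hd : d ≠ 0 := ((Matrix.isUnit_iff_isUnit_det _).1 A.isUnit).ne_zero
  have hh : hF.invt (midO m a b h) = (sqMk hd, 1) := by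
    have e' : (⟨g, hg⟩ : OM m a b) = ⟨l, LoS_le hl⟩ * levO' m a b A * midO m a b h *
        ⟨upE a b R X, upE_mem.2 hX⟩ := Subtype.ext e
    rw [e', map_mul, map_mul, map_mul, invt_upE hF hm hX,
      invt_loS hF hm (u := ⟨l, LoS_le hl⟩) hl, one_mul, mul_one, invt_levO hF hm A hd rfl] at hgi
    rw [eq_inv_of_mul_eq_one_right hgi]
    have hsq : sqMk hd * sqMk hd = 1 := sqClass_mul_self _
    exact Prod.ext (inv_eq_of_mul_eq_one_left hsq) inv_one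
  have step : ∀ f : Fin m → F, R *ᵥ f ≠ 0 → ∃ r, 1 + f ⬝ᵥ mvec R X a b f r = d⁻¹ ∧
      ∀ (k : OMid a b), (∀ z, k.1.1 *ᵥ z = z - (r ⬝ᵥ (Bm a b *ᵥ z)) • (R *ᵥ f) +
        (d * ((R *ᵥ f) ⬝ᵥ (Bm a b *ᵥ z) -
          qm a b (R *ᵥ f) * (r ⬝ᵥ (Bm a b *ᵥ z)))) • (r - qm a b r • (R *ᵥ f))) → h * k = 1 := by
    intro f hf
    obtain ⟨w, hw, s, t, hwd, hs, ht, hst⟩ := exists_kill hF hAn hf h hd hh
    set z₀ := R *ᵥ f with hz₀
    have hq : qm a b z₀ ≠ 0 := fun hh => hf (hAn _ hh)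
    set c := (qm a b z₀)⁻¹ with hcdef
    have hc : c * qm a b z₀ = 1 := inv_mul_cancel₀ hq
    have hwc : (qm a b w)⁻¹ = d * c := by
      rw [hcdef, ← hwd, _root_.mul_inv_rev, ← mul_assoc, mul_inv_cancel₀ hd, one_mul]
    have hdw : d * qm a b w * c = 1 := by rw [mul_comm d, hwd, mul_comm, hc]
    set β := z₀ ⬝ᵥ (Bm a b *ᵥ w)
    refine ⟨c • (z₀ - w), ?_, fun k hk => ?_⟩
    · have eq2 : qm a b (z₀ - w) = qm a b z₀ + qm a b w - β := by
        rw [sub_eq_add_neg z₀ w, qm_add, qm_neg, mulVec_neg, dotProduct_neg]; ring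
      have e3 : f ⬝ᵥ mvec R X a b f (c • (z₀ - w)) =
          -(c * c * qm a b (z₀ - w)) * (f ⬝ᵥ (X *ᵥ f)) -
            z₀ ⬝ᵥ (Bm a b *ᵥ (c • (z₀ - w))) := by
        rw [mvec, dotProduct_sub, dotProduct_smul, smul_eq_mul, qm_smul, dotProduct_mulVec f Rᵀ,
          vecMul_transpose]
      rw [e3, eq2, mulVec_smul, dotProduct_smul, smul_eq_mul, mulVec_sub, dotProduct_sub, bm_self,
        show f ⬝ᵥ (X *ᵥ f) = -qm a b z₀ by linear_combination hX f]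
      rw [inv_eq_one_div, eq_div_iff hd]
      linear_combination (d * (c * qm a b w - c * β + c * qm a b z₀ - 1)) * hc + hdw
    · rw [← hst]
      congr 1
      refine Subtype.ext (Units.ext (Matrix.ext_iff_mulVec.2 fun z => ?_))
      show k.1.1 *ᵥ z = (s.1.1 * t.1.1) *ᵥ z
      have eq2 : qm a b (z₀ - w) = qm a b z₀ + qm a b w - β := by
        rw [sub_eq_add_neg z₀ w, qm_add, qm_neg, mulVec_neg, dotProduct_neg]; ring
      rw [hk, ← mulVec_mulVec, hs, ht, hwc]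
      simp only [qm_smul, eq2, smul_dotProduct, sub_dotProduct, smul_eq_mul, mulVec_sub, mulVec_smul,
        dotProduct_sub, dotProduct_smul, ← hcdef]
      match_scalars
      · ring
      · linear_combination (-(d * c * (w ⬝ᵥ (Bm a b *ᵥ z))) -
          d * c * (z₀ ⬝ᵥ (Bm a b *ᵥ z) - w ⬝ᵥ (Bm a b *ᵥ z)) *
            (1 - c * (qm a b z₀ + qm a b w - β))) * hc - c * (w ⬝ᵥ (Bm a b *ᵥ z)) * hdw
      · linear_combination (d * c * (z₀ ⬝ᵥ (Bm a b *ᵥ z) - w ⬝ᵥ (Bm a b *ᵥ z))) * hc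
  obtain ⟨i, j, t, hij, hj, hi⟩ := exists_two hm hR
  obtain ⟨r, hr, hkr⟩ := step _ hj
  obtain ⟨r', hr', hkr'⟩ := step _ hi
  have fin : ∀ (f : Fin m → F) (r : Fin 2 → F), 1 + f ⬝ᵥ mvec R X a b f r = d⁻¹ →
      (∀ (k : OMid a b), (∀ z, k.1.1 *ᵥ z = z - (r ⬝ᵥ (Bm a b *ᵥ z)) • (R *ᵥ f) +
        (d * ((R *ᵥ f) ⬝ᵥ (Bm a b *ᵥ z) -
          qm a b (R *ᵥ f) * (r ⬝ᵥ (Bm a b *ᵥ z)))) • (r - qm a b r • (R *ᵥ f))) → h * k = 1) →
      (¬ ∃ c : F, A.1 * (1 + vecMulVec (mvec R X a b f r) f) = c • 1) → Reduced g a b := by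
    intro f r hr hk hn
    obtain ⟨lo, hlo, l', hl', K, k, R', X', hX', eu, hK, hkz, -⟩ :=
      up_mul_lo hX f r (by rw [hr]; exact inv_ne_zero hd)
    rw [hr, inv_inv] at hkz
    obtain ⟨l'', hl'', ec⟩ := cell_conj hl hlo hl' A K h k eu
    rw [hk k hkz, OneMemClass.coe_one, map_one, mul_one, ← e] at ec
    refine ⟨lo⁻¹, inv_mem (LoS_le hlo), l'', hl'', A * K, R', X', hX', ?_, ?_, by rw [inv_inv, ec]⟩
    · rw [Units.val_mul, det_mul, hK, det_one_add_vecMulVec, hr]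
      exact mul_inv_cancel₀ hd
    · rw [Units.val_mul, hK]; exact hn
  rcases nonscalar_or hm hd hns hij t (mvec R X a b (Pi.single j 1) r)
      (mvec R X a b (Pi.single i 1 + t • Pi.single j 1) r')
      (by rw [hr]; exact inv_ne_zero hd) with hn | hn
  · exact fin _ r hr hkr hn
  · exact fin _ r' hr' hkr' hn

include hF in
/-- a non-trivial upper part -/
theorem reduce_up (hm : 3 ≤ m) (hAn : Aniso a b) {g l : GL (Ix m) F} (hg : g ∈ OM m a b)
    (hgi : hF.invt ⟨g, hg⟩ = 1) (hl : l ∈ LoS m a b) {A : GL (Fin m) F}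
    (hns : ¬ ∃ c : F, A.1 = c • 1) (h : OMid a b) {R : Matrix (Fin 2) (Fin m) F}
    {X : Matrix (Fin m) (Fin m) F} (hX : UOK a b R X) (hne : R ≠ 0 ∨ X ≠ 0)
    (e : g = l * levM F m A * midM F m h.1 * upE a b R X) : Reduced g a b := by
  classical
  by_cases hR : R = 0
  swap
  · exact reduce_row hF hm hAn hg hgi hl hns h hX hR e
  have hX0 := hne.resolve_left (not_not.2 hR)
  set r : Fin 2 → F := Pi.single 0 1
  obtain ⟨i, j, t, hij, hj, hi⟩ := exists_two hm hX0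
  have hN : ∀ f, 1 + f ⬝ᵥ mvec R X a b f r = 1 := fun f => by
    have h0 : f ⬝ᵥ (X *ᵥ f) = 0 := by simpa [hR, qm_zero] using hX f
    rw [mvec, hR, transpose_zero, zero_mulVec, sub_zero, dotProduct_smul, h0, smul_zero, add_zero]
  have fin : ∀ f : Fin m → F, X *ᵥ f ≠ 0 →
      (¬ ∃ c : F, A.1 * (1 + vecMulVec (mvec R X a b f r) f) = c • 1) → Reduced g a b := by
    intro f hf hn
    obtain ⟨lo, hlo, l', hl', K, k, R', X', hX', eu, hK, -, hKR⟩ :=
      up_mul_lo hX f r (by rw [hN]; exact one_ne_zero)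
    obtain ⟨l'', hl'', ec⟩ := cell_conj hl hlo hl' A K h k eu
    rw [← e] at ec
    have hR' : R' ≠ 0 := fun h0 => by
      obtain ⟨z, hz⟩ := bm_row_ne hAn
      have := hKR z
      rw [h0, hR, transpose_zero, zero_mulVec, mulVec_zero, add_zero] at this
      exact (smul_ne_zero hz hf) this.symm
    have hm' : lo⁻¹ * g * lo ∈ OM m a b :=
      mul_mem (mul_mem (inv_mem (LoS_le hlo)) hg) (LoS_le hlo)
    have hi' : hF.invt ⟨lo⁻¹ * g * lo, hm'⟩ = 1 := by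
      rw [← hgi, ← hF.invt_conj (⟨lo, LoS_le hlo⟩ : OM m a b)⁻¹ ⟨g, hg⟩]
      exact congrArg hF.invt (Subtype.ext (by simp))
    refine Reduced.of_conj (inv_mem (LoS_le hlo)) ?_
    rw [inv_inv]
    exact reduce_row hF hm hAn hm' hi' hl'' (by rw [Units.val_mul, hK]; exact hn) (h * k) hX' hR' ec
  rcases nonscalar_or hm ((Matrix.isUnit_iff_isUnit_det _).1 A.isUnit).ne_zero hns hij t
      (mvec R X a b (Pi.single j 1) r) (mvec R X a b (Pi.single i 1 + t • Pi.single j 1) r)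
      (by rw [hN]; exact one_ne_zero) with hn | hn
  · exact fin _ hj hn
  · exact fin _ hi hn

include hF in
/-- every element of trivial invariant other than signs reduces -/
theorem exists_reduced (hm : 3 ≤ m) (hAn : Aniso a b) {g : GL (Ix m) F} (hg : g ∈ OM m a b)
    (hgi : hF.invt ⟨g, hg⟩ = 1) (h1 : g.1 ≠ 1) (h2 : g.1 ≠ -1) : Reduced g a b := by
  classical
  obtain ⟨x, hx, l, hl, A, h, R, X, hX, hns, e⟩ := exists_cellM hm hAn hg h1 h2
  refine Reduced.of_conj hx ?_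
  set g₁ := x * g * x⁻¹
  have hg₁ : g₁ ∈ OM m a b := mul_mem (mul_mem hx hg) (inv_mem hx)
  have hgi₁ : hF.invt ⟨g₁, hg₁⟩ = 1 := (hF.invt_conj ⟨x, hx⟩ ⟨g, hg⟩).trans hgi
  have conj1 : ∀ {y : GL (Ix m) F} (hy : y ∈ OM m a b) (h' : y * g₁ * y⁻¹ ∈ OM m a b),
      hF.invt ⟨y * g₁ * y⁻¹, h'⟩ = 1 := fun {y} hy h' =>
    (hF.invt_conj ⟨y, hy⟩ ⟨g₁, hg₁⟩).trans hgi₁
  by_cases hne : R ≠ 0 ∨ X ≠ 0
  · exact reduce_up hF hm hAn hg₁ hgi₁ hl hns h hX hne e
  push Not at hne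
  rw [hne.1, hne.2, upE_zero, mul_one] at e
  by_cases hl1 : l = 1
  · -- a pure Levi element
    rw [hl1, one_mul] at e
    obtain ⟨R₀, hR₀⟩ : ∃ R₀ : Matrix (Fin 2) (Fin m) F,
        (h⁻¹).1.1 * R₀ * ((A⁻¹).1)ᵀ + -R₀ ≠ 0 := by
      by_contra hc
      push Not at hc
      apply hns
      have key : ∀ R₀ : Matrix (Fin 2) (Fin m) F, (h⁻¹).1.1 * R₀ = R₀ * A.1ᵀ := fun R₀ => by
        have e1 := hc (R₀ * A.1ᵀ)
        rw [← Matrix.mul_assoc, Matrix.mul_assoc _ A.1ᵀ, ← transpose_mul, Units.inv_mul,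
          transpose_one, Matrix.mul_one, ← sub_eq_add_neg, sub_eq_zero] at e1
        exact e1
      refine ⟨(h⁻¹).1.1 0 0, Matrix.ext fun i j => ?_⟩
      have := congrFun (congrFun (key (Matrix.single 0 j 1)) 0) i
      rw [Matrix.single_mul_apply_same, Matrix.transpose_apply, one_mul] at this
      rw [Matrix.smul_apply, Matrix.one_apply, ← this]
      by_cases h' : i = j
      · rw [if_pos h', h', Matrix.mul_single_apply_same, smul_eq_mul]
      · rw [if_neg h', Matrix.mul_single_apply_of_ne (hbj := h'), smul_zero]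
    set y := upE a b R₀ (-(R₀ᵀ * Gm a b * R₀))
    have hy : y ∈ OM m a b := upE_mem.2 (uok_gram _)
    set p := levM F m A * midM F m h.1
    have e2 : y * g₁ * y⁻¹ = 1 * levM F m A * midM F m h.1 * (p⁻¹ * y * p * y⁻¹) := by
      rw [e, one_mul, show levM F m A * midM F m h.1 = p from rfl]; group
    have hconj : p⁻¹ * y * p * y⁻¹ = upE a b ((h⁻¹).1.1 * R₀ * ((A⁻¹).1)ᵀ + -R₀)
        ((A⁻¹).1 * -(R₀ᵀ * Gm a b * R₀) * ((A⁻¹).1)ᵀ +
          (- -(R₀ᵀ * Gm a b * R₀) - R₀ᵀ * Bm a b * R₀) -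
          ((h⁻¹).1.1 * R₀ * ((A⁻¹).1)ᵀ)ᵀ * Bm a b * -R₀) := by
      rw [show p⁻¹ * y * p * y⁻¹ = (levM F m A⁻¹ *
        ((midM F m h.1)⁻¹ * y * midM F m h.1) * (levM F m A⁻¹)⁻¹) * y⁻¹ by
          simp only [p, map_inv]; rw [lev_mid_comm]; group,
        show (midM F m h.1)⁻¹ * y * midM F m h.1 =
          midM F m (h⁻¹).1 * y * (midM F m (h⁻¹).1)⁻¹ by
          rw [Subgroup.coe_inv, map_inv, inv_inv],
        mid_conj_up (h⁻¹).2, lev_conj_up, upE_inv, upE_mul]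
    have hm' : y * g₁ * y⁻¹ ∈ OM m a b := mul_mem (mul_mem hy hg₁) (inv_mem hy)
    rw [hconj] at e2
    refine Reduced.of_conj hy (reduce_up hF hm hAn hm' (conj1 hy hm') (one_mem _) hns h ?_
      (Or.inl hR₀) e2)
    refine upE_mem.1 ?_
    rw [← hconj]
    have hp : p ∈ OM m a b := mul_mem (levM_mem A) (midM_mem.2 h.2)
    exact mul_mem (mul_mem (mul_mem (inv_mem hp) hy) hp) (inv_mem hy)
  · -- flip
    set y := flp F m * l⁻¹
    have hy : y ∈ OM m a b := mul_mem flp_mem (inv_mem (LoS_le hl))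
    obtain ⟨R', X', hok, el⟩ := LoS_conj.1 hl
    have hne' : R' ≠ 0 ∨ X' ≠ 0 := by
      by_contra hc
      push Not at hc
      apply hl1
      rw [hc.1, hc.2, upE_zero] at el
      exact conj_eq_one_iff.1 el
    have hns' : ¬ ∃ c : F, (ti A).1 = c • 1 := by
      rintro ⟨c, hc⟩
      rw [ti_val] at hc
      have h1 := A.mul_inv
      have hc' : (A⁻¹).1 = c • 1 := by
        have := congrArg Matrix.transpose hc
        rwa [transpose_transpose, transpose_smul, transpose_one] at this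
      rw [hc', Matrix.mul_smul, Matrix.mul_one] at h1
      have hc0 : c ≠ 0 := fun h0 => by
        rw [h0, zero_smul] at h1
        have : Nonempty (Fin m) := ⟨⟨0, by omega⟩⟩
        exact zero_ne_one h1
      exact hns ⟨c⁻¹, by rw [← h1, smul_smul, inv_mul_cancel₀ hc0, one_smul]⟩
    have e2 : y * g₁ * y⁻¹ = 1 * levM F m (ti A) * midM F m h.1 * upE a b R' X' := by
      rw [← el, one_mul, ← flp_conj_lev A, ← flp_conj_mid (F := F) (m := m) h.1, e]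
      simp only [y]
      group
    have hm' : y * g₁ * y⁻¹ ∈ OM m a b := mul_mem (mul_mem hy hg₁) (inv_mem hy)
    exact Reduced.of_conj hy (reduce_up hF hm hAn hm' (conj1 hy hm') (one_mem _) hns' h hok hne' e2)

end CfsgLib.KnownB.OreOmegaMinus
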