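import Cfsg.Agent.Lib.KnownB.OreOmegaMinus.Corner

/-!
The element `-1`: two anticommuting elements of trivial invariant.
-/

set_option autoImplicit false
set_option linter.unusedSectionVars false

namespace CfsgLib.KnownB.OreOmegaMinus

open Matrix QuadraticMap CfsgLib.Geometry CfsgLib.Thompson

variable {F : Type*} [Field F] {m : ℕ} {a b : F}

/-- monomial matrices -/
def mono (π : Fin m → Fin m) (d : Fin m → F) : Matrix (Fin m) (Fin m) F :=
  Matrix.of fun i j => if j = π i then d i else 0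

lemma mono_mulVec (π : Fin m → Fin m) (d x : Fin m → F) (i : Fin m) :
    (mono π d *ᵥ x) i = d i * x (π i) := by
  simp [mono, Matrix.mulVec, dotProduct]

lemma mono_mul (π τ : Fin m → Fin m) (d e : Fin m → F) :
    mono π d * mono τ e = mono (τ ∘ π) fun i => d i * e (π i) :=
  Matrix.ext_iff_mulVec.2 fun x => funext fun i => by
    rw [← mulVec_mulVec, mono_mulVec, mono_mulVec, mono_mulVec, mul_assoc]; rfl

lemma mono_one {π : Fin m → Fin m} {d : Fin m → F} (hπ : ∀ i, π i = i) (hd : ∀ i, d i = 1) :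
    mono π d = 1 :=
  Matrix.ext_iff_mulVec.2 fun x => funext fun i => by
    rw [mono_mulVec, hπ, hd, one_mul, one_mulVec]

lemma neg_mono (π : Fin m → Fin m) (d : Fin m → F) : -mono π d = mono π (fun i => -d i) := by
  ext i j; simp [mono]; split_ifs <;> simp

variable [Fintype F] (hF : GoodForm (qM m a b))

include hF in
/-- when minus one has trivial invariant, `m` is even and the discriminant a square -/
theorem neg_one_disc (hm : 3 ≤ m) (hA : Aniso a b) (hD0 : 4 * b - a * a ≠ 0) (h2 : (2 : F) ≠ 0)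
    {g : OM m a b} (hgi : hF.invt g = 1) (hg : g.1.1 = -1) :
    IsSquare ((-1 : F) ^ m * (4 * b - a * a)) := by
  set e0 : Fin 2 → F := Pi.single 0 1
  set v : Fin 2 → F := ![a, -2]
  have hq0 : qm a b e0 = 1 := by rw [qm_apply]; simp [e0]
  have hqv : qm a b v = 4 * b - a * a := by rw [qm_apply]; simp [v]; ring
  have hq0' : qm a b e0 ≠ 0 := by rw [hq0]; exact one_ne_zero
  have hqv' : qm a b v ≠ 0 := by rw [hqv]; exact hD0
  obtain ⟨s, hs⟩ := exists_mid_refl hq0'
  obtain ⟨t, ht⟩ := exists_mid_refl hqv'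
  have hst : ∀ z, (s * t).1.1 *ᵥ z = -z := fun z => by
    show (s.1.1 * t.1.1) *ᵥ z = -z
    rw [← mulVec_mulVec, hs, ht, hq0, hqv]
    have hi : (4 * b - a * a) * (4 * b - a * a)⁻¹ = 1 := mul_inv_cancel₀ hD0
    funext i
    fin_cases i <;> simp [e0, v, Bm, Gm, Matrix.mulVec, Matrix.vecHead, Matrix.vecTail, dotProduct, Fin.sum_univ_two]
    · linear_combination (a * z 1) * hi
    · linear_combination (-2 * z 1) * hi
  have hsq1 : sqMk (hq0') = 1 := (sqMk_eq_one_iff _).2 ⟨1, by rw [hq0, one_mul]⟩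
  let n1 := Matrix.GeneralLinearGroup.mkOfDetNeZero (-1 : Matrix (Fin m) (Fin m) F)
    (by rw [det_neg, det_one, mul_one]; exact pow_ne_zero _ (neg_ne_zero.2 one_ne_zero))
  have hn1 : n1.1 = -1 := rfl
  have hti : ∀ y : Fin m → F, (ti n1).1 *ᵥ y = -y := fun y => by
    have h : n1⁻¹ = n1 := inv_eq_of_mul_eq_one_left (Units.ext (by
      show n1.1 * n1.1 = 1
      rw [hn1]; simp))
    rw [ti_val, h, hn1, transpose_neg, transpose_one, neg_mulVec, one_mulVec]
  have e : g = levO' m a b n1 * midO m a b (s * t) := by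
    refine Subtype.ext (glM fun x y z => ?_)
    show g.1.1 *ᵥ vm x y z = ((levM F m n1).1 * (midM F m (s * t).1).1) *ᵥ vm x y z
    rw [← mulVec_mulVec, midM_mulVec, levM_mulVec, hst, hti, hn1, hg, neg_mulVec, neg_mulVec,
      one_mulVec, one_mulVec, ← neg_one_smul F (vm x y z), vm_smul]
    simp
  have hd1 : n1.1.det = (-1 : F) ^ m := by
    rw [hn1, det_neg, det_one, mul_one, Fintype.card_fin]
  rw [e, map_mul, map_mul, map_mul, invt_levO hF hm n1
    (pow_ne_zero _ (neg_ne_zero.2 one_ne_zero)) hd1, invt_mid_refl hF hq0' hs,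
    invt_mid_refl hF hqv' ht] at hgi
  have h1 := congrArg Prod.fst hgi
  simp only [Prod.fst_mul, Prod.fst_one, hsq1, one_mul] at h1
  rw [← sqMk_mul (pow_ne_zero _ (neg_ne_zero.2 one_ne_zero)) hqv', sqMk_eq_one_iff, hqv] at h1
  exact h1

include hF in
/-- anticommuting rotation and reflection of the middle plane -/
theorem exists_anti_mid (h2 : (2 : F) ≠ 0) {σ : F} (hσ0 : σ ≠ 0)
    (hσ : 4 * b - a * a = σ * σ) :
    ∃ J s : OMid a b, hF.invt (midO m a b J) = (sqMk h2, 1) ∧
      hF.invt (midO m a b s) = (1, Multiplicative.ofAdd 1) ∧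
      ∀ z, J.1.1 *ᵥ (s.1.1 *ᵥ z) = -(s.1.1 *ᵥ (J.1.1 *ᵥ z)) := by
  set e0 : Fin 2 → F := Pi.single 0 1
  have hq0 : qm a b e0 = 1 := by rw [qm_apply]; simp [e0]
  have hq0' : qm a b e0 ≠ 0 := by rw [hq0]; exact one_ne_zero
  obtain ⟨s, hs⟩ := exists_mid_refl hq0'
  have hsz : ∀ z : Fin 2 → F, s.1.1 *ᵥ z = ![-z 0 - a * z 1, z 1] := fun z => by
    rw [hs, hq0]
    funext i
    fin_cases i <;> simp [e0, Bm, Gm, Matrix.mulVec, dotProduct, Fin.sum_univ_two] <;> ring
  set w : Fin 2 → F := ![1 + a / σ, -2 / σ]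
  have hqw : qm a b w = 2 := by
    rw [qm_apply]
    simp [w]
    field_simp
    linear_combination hσ
  have hqw' : qm a b w ≠ 0 := by rw [hqw]; exact h2
  obtain ⟨s', hs'⟩ := exists_mid_refl hqw'
  have hs'z : ∀ z : Fin 2 → F, s'.1.1 *ᵥ z =
      σ⁻¹ • ![-(a * z 0) + (2 * b - a * a) * z 1, 2 * z 0 + a * z 1] := fun z => by
    rw [hs', hqw]
    funext i
    fin_cases i <;> simp [w, Bm, Gm, Matrix.mulVec, dotProduct, Fin.sum_univ_two] <;> field_simp
    · linear_combination (a * z 1) * hσ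
    · linear_combination (-z 1) * hσ
  have hJz : ∀ z : Fin 2 → F,
      (s * s').1.1 *ᵥ z = σ⁻¹ • ![-(a * z 0) - 2 * b * z 1, 2 * z 0 + a * z 1] := fun z => by
    show (s.1.1 * s'.1.1) *ᵥ z = _
    rw [← mulVec_mulVec, hsz, hs'z]
    funext i
    fin_cases i <;> simp <;> ring
  have hsq1 : sqMk (hq0') = 1 := (sqMk_eq_one_iff _).2 ⟨1, by rw [hq0, one_mul]⟩
  refine ⟨s * s', s, ?_, ?_, fun z => ?_⟩
  · rw [map_mul, map_mul, invt_mid_refl hF hq0' hs, invt_mid_refl hF hqw' hs', Prod.mk_mul_mk,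
      hsq1, one_mul]
    refine Prod.ext ?_ (show (Multiplicative.ofAdd 1 : Multiplicative (ZMod 2)) *
      Multiplicative.ofAdd 1 = 1 by decide)
    simp only [hqw]
  · rw [invt_mid_refl hF hq0' hs, hsq1]
  · rw [hJz, hsz, hJz, hsz]
    funext i
    fin_cases i <;> simp <;> ring

/-- anticommuting monomial matrices -/
theorem exists_anti_lev {r : ℕ} (hr : 2 ≤ r) {t : F} (ht : t ≠ 0) :
    ∃ (D E : GL (Fin (r + r)) F) (j : Fin (r + r)), D.1.det = t ∧
      D.1 *ᵥ Pi.single j 1 = Pi.single j 1 ∧ (ti D).1 *ᵥ Pi.single j 1 = Pi.single j 1 ∧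
      D.1 * E.1 = -(E.1 * D.1) := by
  classical
  let π : Fin (r + r) → Fin (r + r) := Equiv.swap ⟨0, by omega⟩ ⟨1, by omega⟩
  let τ : Fin (r + r) → Fin (r + r) := fun i =>
    if hi : (i : ℕ) < 2 then i else if hp : (i : ℕ) % 2 = 0 then ⟨i + 1, by omega⟩ else
      ⟨i - 1, by omega⟩
  let d : F → Fin (r + r) → F := fun c i =>
    if (i : ℕ) = 0 then c else if (i : ℕ) = 1 then 1 else if (i : ℕ) % 2 = 0 then 1 else -1
  let e : Fin (r + r) → F := fun i => if (i : ℕ) = 1 then -1 else 1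
  have hπ0 : ∀ i : Fin (r + r), (π i : ℕ) =
      if (i : ℕ) = 0 then 1 else if (i : ℕ) = 1 then 0 else (i : ℕ) := fun i => by
    simp only [π, Equiv.swap_apply_def]
    split_ifs <;> simp_all [Fin.ext_iff]
  have hτ0 : ∀ i : Fin (r + r), (τ i : ℕ) =
      if (i : ℕ) < 2 then (i : ℕ) else if (i : ℕ) % 2 = 0 then (i : ℕ) + 1 else (i : ℕ) - 1 :=
    fun i => by
      simp only [τ]
      split_ifs <;> rfl
  have hcomm : τ ∘ π = π ∘ τ := funext fun i => Fin.ext (by
    simp only [Function.comp_apply, hτ0, hπ0]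
    split_ifs <;> first | omega | contradiction | simp_all | (exfalso; omega))
  have hanti : ∀ c, mono π (d c) * mono τ e = -(mono τ e * mono π (d c)) := fun c => by
    rw [mono_mul, mono_mul, neg_mono, hcomm]
    congr 1
    funext i
    simp only [d, e, hτ0, hπ0]
    split_ifs <;> first | omega | contradiction | simp_all | (exfalso; omega)
  have hD1 : mono π (d 1) * mono π (d 1) = 1 := by
    rw [mono_mul]
    refine mono_one (fun i => by simp [π]) fun i => ?_
    simp only [d, hπ0]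
    split_ifs <;> first | omega | contradiction | simp_all | (exfalso; omega)
  have hE1 : mono τ e * mono τ e = 1 := by
    rw [mono_mul]
    refine mono_one (fun i => Fin.ext ?_) fun i => ?_
    · simp only [Function.comp_apply, hτ0]; split_ifs <;> first | omega | contradiction | simp_all | (exfalso; omega)
    · simp only [e, hτ0]
      split_ifs <;> first | omega | contradiction | simp_all | (exfalso; omega)
  set δ := (mono π (d 1)).det
  have hδ : δ ≠ 0 := fun h => by
    have := congrArg Matrix.det hD1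
    rw [det_mul, det_one, show (mono π (d 1)).det = 0 from h, mul_zero] at this
    exact zero_ne_one this
  set c : F := t * δ⁻¹ with hc
  have hdetD : (mono π (d c)).det = t := by
    have e1 : mono π (d c) = diagonal (Function.update 1 (⟨0, by omega⟩ : Fin (r + r)) c) *
        mono π (d 1) := by
      ext i j
      rw [diagonal_mul]
      simp only [mono, of_apply, d, Function.update_apply, Pi.one_apply, Fin.ext_iff]
      split_ifs <;> simp
    rw [e1, det_mul, det_diagonal, Finset.prod_update_of_mem (Finset.mem_univ _)]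
    simp [hc, mul_assoc, show (mono π (d 1)).det = δ from rfl, inv_mul_cancel₀ hδ]
  set j : Fin (r + r) := ⟨2, by omega⟩
  set D := Matrix.GeneralLinearGroup.mkOfDetNeZero _ (hdetD.trans_ne ht) with hDg
  refine ⟨D, ⟨mono τ e, mono τ e, hE1, hE1⟩, j, hdetD, funext fun i => ?_, ?_, hanti c⟩
  · show (mono π (d c) *ᵥ _) i = _
    rw [mono_mulVec]
    simp only [Pi.single_apply, Fin.ext_iff, hπ0, d, j]
    split_ifs <;> first | omega | contradiction | simp_all | (exfalso; omega)
  · have h : D.1ᵀ *ᵥ Pi.single j 1 = Pi.single j 1 := funext fun i => by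
      rw [mulVec_single_one, Matrix.col_apply, transpose_apply]
      show mono π (d c) j i = _
      simp only [mono, of_apply, Pi.single_apply, Fin.ext_iff, hπ0, d, j]
      split_ifs <;> first | omega | contradiction | simp_all | (exfalso; omega)
    conv_lhs => rw [← h]
    rw [mulVec_mulVec, ti_val, ← transpose_mul, Units.mul_inv, transpose_one, one_mulVec]

include hF in
/-- the element minus one -/
theorem comm_neg (hm : 3 ≤ m)
    (hab : ∀ z₁ z₂ : F, z₁ ^ 2 + a * z₁ * z₂ + b * z₂ ^ 2 = 0 → z₁ = 0 ∧ z₂ = 0)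
    (h2 : (2 : F) ≠ 0) {g : OM m a b} (hgi : hF.invt g = 1) (hg : g.1.1 = -1) : IsCommM hF g := by
  classical
  obtain ⟨hD0, hns⟩ := binAniso_discr hab
  have hns := hns h2
  have hsig := neg_one_disc hF hm (aniso_of hab) hD0 h2 hgi hg
  obtain ⟨r, rfl⟩ : Even m := by
    by_contra hev
    rw [(Nat.not_even_iff_odd.1 hev).neg_one_pow] at hsig
    exact hns (by convert hsig using 1; ring)
  rw [Even.neg_one_pow ⟨r, rfl⟩, one_mul] at hsig
  obtain ⟨σ, hσ⟩ := hsig
  have hσ0 : σ ≠ 0 := fun h => hD0 (by rw [hσ, h, mul_zero])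
  obtain ⟨J, s, hJ, hsi, hJs⟩ := exists_anti_mid hF h2 hσ0 hσ
  obtain ⟨D, E, j, hdet, hj1, hj2, hDE⟩ :=
    exists_anti_lev (F := F) (show 2 ≤ r by omega) (inv_ne_zero h2)
  set ε := E.1.det
  have hε : ε ≠ 0 := ((Matrix.isUnit_iff_isUnit_det _).1 E.isUnit).ne_zero
  set u := vm (Pi.single j 1) (ε • Pi.single j 1) (0 : Fin 2 → F)
  have hQu : qM (r + r) a b u = ε := by
    rw [qM_vm]; simp [qm_zero]
  obtain ⟨S, hS, hSv⟩ := hF.exists_refl (a := u) (by rw [hQu]; exact hε)
  set x := levO' (r + r) a b D * midO (r + r) a b J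
  set y := levO' (r + r) a b E * S * midO (r + r) a b s
  refine ⟨x, y, ?_, ?_, ?_⟩
  · rw [map_mul, invt_levO hF hm D (inv_ne_zero h2) hdet, hJ, Prod.mk_mul_mk]
    refine Prod.ext ?_ (one_mul _)
    show sqMk (inv_ne_zero h2) * sqMk h2 = 1
    rw [← sqMk_mul, sqMk_eq_one_iff]
    exact ⟨1, by rw [inv_mul_cancel₀ h2, one_mul]⟩
  · rw [map_mul, map_mul, invt_levO hF hm E hε rfl, hS, hsi, Prod.mk_mul_mk, Prod.mk_mul_mk]
    refine Prod.ext ?_ (show (1 : Multiplicative (ZMod 2)) * Multiplicative.ofAdd 1 *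
      Multiplicative.ofAdd 1 = 1 by decide)
    show sqMk hε * sqMk _ * 1 = 1
    rw [mul_one, ← sqMk_mul, sqMk_eq_one_iff]
    exact ⟨ε, by rw [hQu]⟩
  -- the anticommutation
  let LD := (levM F (r + r) D).1
  let LE := (levM F (r + r) E).1
  let MJ := (midM F (r + r) J.1).1
  let Ms := (midM F (r + r) s.1).1
  have hSfix : ∀ {f : GL (Ix (r + r)) F}, f ∈ OM (r + r) a b → f.1 *ᵥ u = u →
      f.1 * S.1.1 = S.1.1 * f.1 := fun {f} hf hfu => Matrix.ext_iff_mulVec.2 fun q => by
    rw [← mulVec_mulVec, ← mulVec_mulVec, hSv, hSv, mulVec_sub, mulVec_smul, hfu]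
    have := polar_map hf q u
    rw [hfu] at this
    rw [this]
  have cJ : MJ * S.1.1 = S.1.1 * MJ :=
    hSfix (midM_mem.2 J.2) (by rw [midM_mulVec, mulVec_zero])
  have cD : LD * S.1.1 = S.1.1 * LD :=
    hSfix (levM_mem D) (by rw [levM_mulVec, hj1, mulVec_smul, hj2])
  have cLM : ∀ (A : GL (Fin (r + r)) F) (k : GL (Fin 2) F),
      (levM F (r + r) A).1 * (midM F (r + r) k).1 = (midM F (r + r) k).1 * (levM F (r + r) A).1 :=
    fun A k => by rw [← Units.val_mul, ← Units.val_mul, lev_mid_comm]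
  have hn : ∀ (A : GL (Fin (r + r)) F), A.1 = -1 → (ti A).1 = -1 := fun A hA => by
    have h : A⁻¹ = A := inv_eq_of_mul_eq_one_left (Units.ext (by
      show A.1 * A.1 = 1
      rw [hA]; simp))
    rw [ti_val, h, hA, transpose_neg, transpose_one]
  have key : LD * LE * (MJ * Ms) = -(LE * LD * (Ms * MJ)) := extM fun A B z => by
    set N := D * E * (E * D)⁻¹
    have hN : N.1 = -1 := by
      show D.1 * E.1 * ((E * D)⁻¹).1 = -1
      rw [hDE, Matrix.neg_mul, ← Units.val_mul, Units.mul_inv]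
    have hDE' : D * E = N * (E * D) := (inv_mul_cancel_right (D * E) (E * D)).symm
    rw [neg_mulVec]
    simp only [LD, LE, MJ, Ms, ← mulVec_mulVec, midM_mulVec, levM_mulVec, hJs]
    rw [← neg_one_smul F (vm _ _ _), vm_smul, vm_inj]
    refine ⟨?_, ?_, by simp⟩
    · rw [mulVec_mulVec, ← Units.val_mul, hDE', Units.val_mul, hN, Matrix.neg_mul, Matrix.one_mul,
        neg_mulVec, Units.val_mul, ← mulVec_mulVec, neg_one_smul]
    · rw [mulVec_mulVec, ← Units.val_mul, ← map_mul, hDE', map_mul, Units.val_mul, hn N hN,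
        Matrix.neg_mul, Matrix.one_mul, neg_mulVec, map_mul, Units.val_mul, ← mulVec_mulVec,
        neg_one_smul]
  have hxy : x.1.1 * y.1.1 = -(y.1.1 * x.1.1) := by
    show LD * MJ * (LE * S.1.1 * Ms) = -(LE * S.1.1 * Ms * (LD * MJ))
    calc LD * MJ * (LE * S.1.1 * Ms) = LD * (MJ * LE) * (S.1.1 * Ms) := by
          simp only [Matrix.mul_assoc]
      _ = LD * LE * (MJ * S.1.1) * Ms := by
          rw [show MJ * LE = LE * MJ from (cLM E J.1).symm]; simp only [Matrix.mul_assoc]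
      _ = LD * LE * S.1.1 * (MJ * Ms) := by rw [cJ]; simp only [Matrix.mul_assoc]
      _ = LD * LE * (MJ * Ms) * S.1.1 := by
          have cs : Ms * S.1.1 = S.1.1 * Ms := hSfix (midM_mem.2 s.2) (by rw [midM_mulVec, mulVec_zero])
          simp only [Matrix.mul_assoc]
          rw [← Matrix.mul_assoc S.1.1 MJ, ← cJ, Matrix.mul_assoc MJ, ← cs]
      _ = -(LE * S.1.1 * Ms * (LD * MJ)) := by
          rw [key, Matrix.neg_mul]
          congr 1
          have cs : Ms * S.1.1 = S.1.1 * Ms := hSfix (midM_mem.2 s.2) (by rw [midM_mulVec, mulVec_zero])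
          simp only [Matrix.mul_assoc]
          rw [cJ, ← Matrix.mul_assoc Ms S.1.1, cs, Matrix.mul_assoc S.1.1,
            ← Matrix.mul_assoc LD S.1.1, cD, Matrix.mul_assoc S.1.1,
            ← Matrix.mul_assoc LD Ms, show LD * Ms = Ms * LD from cLM D s.1, Matrix.mul_assoc Ms]
  refine Subtype.ext ?_
  show g.1 = x.1 * y.1 * x.1⁻¹ * y.1⁻¹
  have h1 : x.1 * y.1 = g.1 * (y.1 * x.1) := Units.ext (by
    rw [Units.val_mul, Units.val_mul, Units.val_mul, hxy, hg, Matrix.neg_mul, Matrix.one_mul])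
  rw [h1]; group

end CfsgLib.KnownB.OreOmegaMinus
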