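import Mathlib

/-!
A finite check over two elements in dimension three: a non-trivial upper part moves a transvection
corner away by a lower element with trivial middle part.
-/

set_option autoImplicit false

namespace CfsgLib.KnownB.OreOmegaMinus.Tiny

open Matrix

variable {S T : Type*} [CommRing S] [CommRing T]

variable (S) in
/-- the standard transvection -/
def tt : Matrix (Fin 3) (Fin 3) S := !![1, 1, 0; 0, 1, 0; 0, 0, 1]

variable (S) in
/-- triangular matrix of the middle form over two elements -/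
def G1 : Matrix (Fin 2) (Fin 2) S := !![1, 1; 0, 1]

variable (S) in
/-- Gram matrix of the middle form over two elements -/
def B1 : Matrix (Fin 2) (Fin 2) S := !![1 + 1, 1; 1, 1 + 1]

/-- the alternating matrix of a vector -/
def altT (a : Fin 3 → S) : Matrix (Fin 3) (Fin 3) S :=
  !![0, a 2, -a 1; -a 2, 0, a 0; a 1, -a 0, 0]

/-- the middle rows -/
def rows (r s : Fin 3 → S) : Matrix (Fin 2) (Fin 3) S := Matrix.of ![r, s]

/-- the block completing the middle rows -/
def blk (r s a : Fin 3 → S) : Matrix (Fin 3) (Fin 3) S :=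
  -((rows r s)ᵀ * G1 S * rows r s) + altT a

/-- adjugate in dimension three -/
def adj (K : Matrix (Fin 3) (Fin 3) S) : Matrix (Fin 3) (Fin 3) S :=
  !![K 1 1 * K 2 2 - K 1 2 * K 2 1, K 0 2 * K 2 1 - K 0 1 * K 2 2, K 0 1 * K 1 2 - K 0 2 * K 1 1;
     K 1 2 * K 2 0 - K 1 0 * K 2 2, K 0 0 * K 2 2 - K 0 2 * K 2 0, K 0 2 * K 1 0 - K 0 0 * K 1 2;
     K 1 0 * K 2 1 - K 1 1 * K 2 0, K 0 1 * K 2 0 - K 0 0 * K 2 1, K 0 0 * K 1 1 - K 0 1 * K 1 0]

theorem mul_adj (K : Matrix (Fin 3) (Fin 3) S) : K * adj K = K.det • 1 := by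
  ext i j
  fin_cases i <;> fin_cases j <;>
    simp [adj, det_fin_three, Matrix.mul_apply, Fin.sum_univ_three] <;> ring

/-- the new corner factor -/
def corner (R : Matrix (Fin 2) (Fin 3) S) (X : Matrix (Fin 3) (Fin 3) S)
    (R' : Matrix (Fin 2) (Fin 3) S) (T' : Matrix (Fin 3) (Fin 3) S) : Matrix (Fin 3) (Fin 3) S :=
  1 + X * T' - Rᵀ * B1 S * R'

/-- the new middle factor -/
def middle (R : Matrix (Fin 2) (Fin 3) S) (X : Matrix (Fin 3) (Fin 3) S)
    (R' : Matrix (Fin 2) (Fin 3) S) (T' : Matrix (Fin 3) (Fin 3) S) : Matrix (Fin 2) (Fin 2) S :=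
  1 - R * (R'ᵀ * B1 S) +
    (R' + R * T') * (adj (corner R X R' T') * ((X * R'ᵀ + Rᵀ) * B1 S))

/-- what a witness achieves -/
def Fine (r s a r' s' a' : Fin 3 → S) : Prop :=
  (corner (rows r s) (blk r s a) (rows r' s') (blk r' s' a')).det = 1 ∧
    middle (rows r s) (blk r s a) (rows r' s') (blk r' s' a') = 1 ∧
    let M := tt S * corner (rows r s) (blk r s a) (rows r' s') (blk r' s' a')
    M = 1 ∨ ∃ i j k l : Fin 3, (M - 1) i k * (M - 1) j l ≠ (M - 1) i l * (M - 1) j k

/-- branching on one entry, so that its value is computed once -/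
def force (x : ZMod 2) (f : ZMod 2 → Bool) : Bool := if x = 0 then f 0 else f 1

theorem force_eq (x : ZMod 2) (f : ZMod 2 → Bool) : force x f = f x := by
  have h : x = 0 ∨ x = 1 := by revert x; decide
  rcases h with rfl | rfl <;> simp [force]

/-- branching on all entries of a matrix -/
def forceM (M : Matrix (Fin 3) (Fin 3) (ZMod 2))
    (f : Matrix (Fin 3) (Fin 3) (ZMod 2) → Bool) : Bool :=
  force (M 0 0) fun a => force (M 0 1) fun b => force (M 0 2) fun c =>
  force (M 1 0) fun d => force (M 1 1) fun e => force (M 1 2) fun g =>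
  force (M 2 0) fun h => force (M 2 1) fun i => force (M 2 2) fun j =>
  f !![a, b, c; d, e, g; h, i, j]

theorem forceM_eq (M : Matrix (Fin 3) (Fin 3) (ZMod 2))
    (f : Matrix (Fin 3) (Fin 3) (ZMod 2) → Bool) : forceM M f = f M := by
  simp only [forceM, force_eq]
  exact congrArg f (Matrix.ext fun i j => by fin_cases i <;> fin_cases j <;> rfl)

/-- the test on the forced blocks -/
def test (R R' : Matrix (Fin 2) (Fin 3) (ZMod 2)) (X T' K : Matrix (Fin 3) (Fin 3) (ZMod 2)) : Bool :=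
  decide (K 0 0 * K 1 1 * K 2 2 - K 0 0 * K 1 2 * K 2 1 - K 0 1 * K 1 0 * K 2 2 +
    K 0 1 * K 1 2 * K 2 0 + K 0 2 * K 1 0 * K 2 1 - K 0 2 * K 1 1 * K 2 0 = 1) &&
  (forceM (adj K) fun A =>
    decide (1 - R * (R'ᵀ * B1 (ZMod 2)) +
      (R' + R * T') * (A * ((X * R'ᵀ + Rᵀ) * B1 (ZMod 2))) = 1)) &&
  (forceM (tt (ZMod 2) * K) fun M =>
    decide (M = 1) ||
    [(0, 1), (0, 2), (1, 2)].any fun p : Fin 3 × Fin 3 =>
    [(0, 1), (0, 2), (1, 2)].any fun q : Fin 3 × Fin 3 =>
      decide ((M - 1) p.1 q.1 * (M - 1) p.2 q.2 ≠ (M - 1) p.1 q.2 * (M - 1) p.2 q.1))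

/-- the search, as a computation -/
def good (r s a r' s' a' : Fin 3 → ZMod 2) : Bool :=
  forceM (blk r s a) fun X => forceM (blk r' s' a') fun T' =>
    forceM (corner (rows r s) X (rows r' s') T') fun K => test (rows r s) (rows r' s') X T' K

/-- all vectors -/
def vecs : List (Fin 3 → ZMod 2) :=
  [0, 1].flatMap fun x => [0, 1].flatMap fun y => [0, 1].map fun z => ![x, y, z]

/-- ten candidates which suffice -/
def cands : List ((Fin 3 → ZMod 2) × (Fin 3 → ZMod 2) × (Fin 3 → ZMod 2)) :=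
  [ (![0, 0, 0], ![1, 0, 1], ![0, 1, 0]),
    (![0, 0, 0], ![1, 0, 0], ![0, 1, 0]),
    (![0, 0, 0], ![0, 0, 1], ![0, 1, 0]),
    (![0, 0, 0], ![0, 0, 1], ![1, 1, 0]),
    (![0, 0, 0], ![0, 0, 0], ![0, 1, 1]),
    (![0, 0, 0], ![0, 0, 0], ![0, 0, 1]),
    (![0, 0, 0], ![0, 0, 1], ![1, 0, 0]),
    (![0, 0, 0], ![1, 0, 1], ![1, 1, 1]),
    (![0, 0, 0], ![1, 1, 0], ![1, 0, 1]),
    (![1, 0, 0], ![0, 0, 0], ![0, 0, 0])]

/-- every non-zero datum with given first row has a witness -/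
def checkRow (r : Fin 3 → ZMod 2) : Bool :=
  vecs.all fun s => vecs.all fun a =>
    decide (r = 0 ∧ s = 0 ∧ a = 0) || cands.any fun c => good r s a c.1 c.2.1 c.2.2

theorem checkRow_0 : checkRow ![0, 0, 0] = true := by decide +kernel

theorem checkRow_1 : checkRow ![0, 0, 1] = true := by decide +kernel

theorem checkRow_2 : checkRow ![0, 1, 0] = true := by decide +kernel

theorem checkRow_3 : checkRow ![0, 1, 1] = true := by decide +kernel

theorem checkRow_4 : checkRow ![1, 0, 0] = true := by decide +kernel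

theorem checkRow_5 : checkRow ![1, 0, 1] = true := by decide +kernel

theorem checkRow_6 : checkRow ![1, 1, 0] = true := by decide +kernel

theorem checkRow_7 : checkRow ![1, 1, 1] = true := by decide +kernel

theorem checkRow_eq (r : Fin 3 → ZMod 2) : checkRow r = true := by
  have h : ∀ x : ZMod 2, x = 0 ∨ x = 1 := by decide
  have e : r = ![r 0, r 1, r 2] := by funext i; fin_cases i <;> rfl
  rw [e]
  rcases h (r 0) with h0 | h0 <;> rcases h (r 1) with h1 | h1 <;> rcases h (r 2) with h2 | h2 <;>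
    rw [h0, h1, h2]
  exacts [checkRow_0, checkRow_1, checkRow_2, checkRow_3, checkRow_4, checkRow_5, checkRow_6, checkRow_7]

theorem mem_vecs (v : Fin 3 → ZMod 2) : v ∈ vecs := by
  have h : ∀ x : ZMod 2, x ∈ ([0, 1] : List (ZMod 2)) := by decide
  simp only [vecs, List.mem_flatMap, List.mem_map]
  exact ⟨v 0, h _, v 1, h _, v 2, h _, by funext i; fin_cases i <;> rfl⟩

theorem exists_fine_zmod (r s a : Fin 3 → ZMod 2) (h : ¬(r = 0 ∧ s = 0 ∧ a = 0)) :
    ∃ r' s' a', Fine r s a r' s' a' := by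
  have hc := checkRow_eq r
  simp only [checkRow, List.all_eq_true, Bool.or_eq_true, decide_eq_true_eq, List.any_eq_true] at hc
  rcases hc s (mem_vecs s) a (mem_vecs a) with hc | ⟨⟨r', s', a'⟩, -, hg⟩
  · exact absurd hc h
  refine ⟨r', s', a', ?_⟩
  simp only [good, test, forceM_eq, Bool.and_eq_true, decide_eq_true_eq] at hg
  obtain ⟨⟨hd, hmid⟩, hm⟩ := hg
  refine ⟨by rw [det_fin_three]; exact hd, hmid, ?_⟩
  simp only [Bool.or_eq_true, List.any_eq_true, decide_eq_true_eq] at hm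
  rcases hm with hz | ⟨p, -, q, -, hm⟩
  · exact Or.inl hz
  · exact Or.inr ⟨p.1, p.2, q.1, q.2, hm⟩

end CfsgLib.KnownB.OreOmegaMinus.Tiny
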